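import Mathlib

/-! Characteristically simple groups and minimal normal subgroups. -/

set_option linter.style.haveILetI false

namespace CfsgLib.SymMax.CharSimple

variable {G : Type*} [Group G]

lemma commute_of_normal_of_inf_eq_bot {M U : Subgroup G} [M.Normal] [U.Normal] (h : M ⊓ U = ⊥)
    {a b : G} (ha : a ∈ M) (hb : b ∈ U) : a * b = b * a :=
  Subgroup.commute_of_normal_of_disjoint M U inferInstance inferInstance (disjoint_iff.2 h) a b ha hb

/-- Two disjoint normal subgroups generate their direct product. -/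
lemma sup_equiv_prod {M U : Subgroup G} [M.Normal] [U.Normal] (h : M ⊓ U = ⊥) :
    Nonempty ((M × U) ≃* ↥(M ⊔ U)) := by
  let f := MonoidHom.noncommCoprod M.subtype U.subtype
    (fun m n => commute_of_normal_of_inf_eq_bot h m.2 n.2)
  have hf : Function.Injective f :=
    (MonoidHom.noncommCoprod_injective _ _ _).2 ⟨M.subtype_injective, U.subtype_injective, by
      rw [Subgroup.range_subtype, Subgroup.range_subtype, disjoint_iff]; exact h⟩
  have hr : f.range = M ⊔ U := by
    refine le_antisymm ?_ (sup_le (fun x hx => ⟨(⟨x, hx⟩, 1), mul_one x⟩)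
      (fun x hx => ⟨(1, ⟨x, hx⟩), one_mul x⟩))
    rintro _ ⟨⟨m, u⟩, rfl⟩
    exact Subgroup.mul_mem_sup m.2 u.2
  exact ⟨(MonoidHom.ofInjective hf).trans (MulEquiv.subgroupCongr hr)⟩

lemma prod_pow_equiv {T : Type*} [Group T] (n : ℕ) :
    Nonempty (((Fin n → T) × T) ≃* (Fin (n + 1) → T)) :=
  ⟨{ toEquiv := (Equiv.prodComm _ _).trans (Fin.consEquiv fun _ => T)
     map_mul' := fun x y => by
      funext i
      refine Fin.cases ?_ ?_ i <;> simp [Fin.consEquiv] }⟩

variable [Finite G]

/-- A characteristically simple group is a power of a simple group. -/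
theorem exists_pow [Nontrivial G] (h : ∀ H : Subgroup G, H.Characteristic → H = ⊥ ∨ H = ⊤) :
    ∃ (T : Subgroup G) (n : ℕ), IsSimpleGroup T ∧ 1 ≤ n ∧ Nonempty (G ≃* (Fin n → T)) := by
  classical
  obtain ⟨T, hT⟩ := (Set.toFinite {N : Subgroup G | N.Normal ∧ N ≠ ⊥}).exists_minimal
    ⟨⊤, inferInstance, top_ne_bot⟩
  haveI hTn : T.Normal := hT.1.1
  have himg : ∀ φ : G ≃* G, (T.map φ.toMonoidHom).Normal := fun φ => hTn.map _ φ.surjective
  have hmin : ∀ (φ : G ≃* G) (N : Subgroup G), N.Normal → N ≤ T.map φ.toMonoidHom →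
      N = ⊥ ∨ N = T.map φ.toMonoidHom := by
    intro φ N hN hle
    by_cases hb : N.map φ.symm.toMonoidHom = ⊥
    · left
      rw [Subgroup.map_eq_bot_iff_of_injective _ φ.symm.injective] at hb
      exact hb
    right
    have h1 : N.map φ.symm.toMonoidHom ≤ T := by
      rintro _ ⟨x, hx, rfl⟩
      obtain ⟨t, ht, rfl⟩ := hle hx
      simpa using ht
    have h2 := le_antisymm h1 (hT.2 ⟨hN.map _ φ.symm.surjective, hb⟩ h1)
    rw [← h2, Subgroup.map_map]
    ext x
    simp
  let K : Subgroup G := ⨆ φ : G ≃* G, T.map φ.toMonoidHom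
  have hK : K = ⊤ := by
    refine (h K ⟨fun ψ => ?_⟩).resolve_left fun hb => ?_
    · show K.comap ψ.toMonoidHom = K
      rw [show K.comap ψ.toMonoidHom = K.map ψ.symm.toMonoidHom from
        Subgroup.comap_equiv_eq_map_symm ψ K, Subgroup.map_iSup]
      apply le_antisymm
      · refine iSup_le fun φ => ?_
        rw [Subgroup.map_map]
        exact le_iSup_of_le (φ.trans ψ.symm) (le_of_eq (by congr 1))
      · refine iSup_le fun φ => le_iSup_of_le (φ.trans ψ) (le_of_eq ?_)
        rw [Subgroup.map_map]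
        congr 1
        ext x; simp
    · apply hT.1.2
      have := le_iSup (fun φ : G ≃* G => T.map φ.toMonoidHom) (MulEquiv.refl G)
      rw [show (⨆ φ : G ≃* G, T.map φ.toMonoidHom) = ⊥ from hb] at this
      simpa using this
  have hsimple : IsSimpleGroup T := by
    haveI : Nontrivial T := (Subgroup.nontrivial_iff_ne_bot T).2 hT.1.2
    refine ⟨fun V hV => ?_⟩
    have htop : T ⊔ Subgroup.centralizer (T : Set G) = ⊤ := by
      refine top_le_iff.1 (hK ▸ iSup_le fun φ => ?_)
      haveI := himg φ
      rcases hmin φ (T ⊓ T.map φ.toMonoidHom) inferInstance inf_le_right with hb | he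
      · refine le_sup_of_le_right fun x hx => Subgroup.mem_centralizer_iff.2 fun t ht => ?_
        exact commute_of_normal_of_inf_eq_bot hb ht hx
      · exact le_sup_of_le_left (inf_eq_right.1 he)
    have hVn : (V.map T.subtype).Normal := by
      rw [← Subgroup.normalizer_eq_top_iff, eq_top_iff, ← htop, sup_le_iff]
      constructor
      · intro t ht
        rw [Subgroup.mem_normalizer_iff]
        intro x
        constructor
        · rintro ⟨v, hv, rfl⟩
          exact ⟨⟨t, ht⟩ * v * ⟨t, ht⟩⁻¹, hV.conj_mem v hv _, rfl⟩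
        · rintro ⟨v, hv, hvx⟩
          refine ⟨⟨t, ht⟩⁻¹ * v * ⟨t, ht⟩, by simpa using hV.conj_mem v hv ⟨t, ht⟩⁻¹, ?_⟩
          show t⁻¹ * (v : G) * t = x
          rw [show (v : G) = t * x * t⁻¹ from hvx]
          group
      · intro c hc
        rw [Subgroup.mem_centralizer_iff] at hc
        rw [Subgroup.mem_normalizer_iff]
        have e : ∀ v : T, c * v.1 * c⁻¹ = v.1 := fun v => by
          rw [← hc v.1 v.2, mul_inv_cancel_right]
        intro x
        constructor
        · rintro ⟨v, hv, rfl⟩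
          exact ⟨v, hv, (e v).symm⟩
        · rintro ⟨v, hv, hvx⟩
          refine ⟨v, hv, mul_left_cancel (a := c) (mul_right_cancel (b := c⁻¹) ?_)⟩
          show c * v.1 * c⁻¹ = c * x * c⁻¹
          rw [e, ← hvx]; rfl
    by_cases hVb : V.map T.subtype = ⊥
    · exact Or.inl ((Subgroup.map_eq_bot_iff_of_injective _ T.subtype_injective).1 hVb)
    · right
      have hle := Subgroup.map_subtype_le V
      have := le_antisymm hle (hT.2 ⟨hVn, hVb⟩ hle)
      rw [eq_top_iff]
      intro x _
      obtain ⟨v, hv, hvx⟩ : (x : G) ∈ V.map T.subtype := by rw [this]; exact x.2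
      rwa [← Subtype.ext hvx]
  obtain ⟨M, hM⟩ := (Set.toFinite {M : Subgroup G | M.Normal ∧
    ∃ n : ℕ, Nonempty ((Fin n → T) ≃* M)}).exists_maximal
    ⟨⊥, inferInstance, 0, ⟨MulEquiv.ofUnique⟩⟩
  haveI hMn : M.Normal := hM.1.1
  have hMtop : M = ⊤ := by
    by_contra hne
    obtain ⟨φ, hφ⟩ : ∃ φ : G ≃* G, ¬ T.map φ.toMonoidHom ≤ M := by
      by_contra hcon
      push Not at hcon
      exact hne (top_le_iff.1 (hK ▸ iSup_le hcon))
    haveI := himg φ
    have hd : M ⊓ T.map φ.toMonoidHom = ⊥ :=
      (hmin φ _ inferInstance inf_le_right).resolve_right (fun e => hφ (inf_eq_right.1 e))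
    obtain ⟨e₁⟩ := sup_equiv_prod hd
    obtain ⟨n, ⟨e₂⟩⟩ := hM.1.2
    obtain ⟨e₃⟩ := prod_pow_equiv (T := T) n
    have hsup : (M ⊔ T.map φ.toMonoidHom) ∈ {M : Subgroup G | M.Normal ∧
        ∃ n : ℕ, Nonempty ((Fin n → T) ≃* M)} :=
      ⟨inferInstance, n + 1, ⟨(e₃.symm.trans (e₂.prodCongr
        (T.equivMapOfInjective φ.toMonoidHom φ.injective))).trans e₁⟩⟩
    exact hφ (le_sup_right.trans (hM.2 hsup le_sup_left))
  obtain ⟨n, ⟨e⟩⟩ := hM.1.2
  have e' : G ≃* (Fin n → T) :=
    (Subgroup.topEquiv.symm.trans (MulEquiv.subgroupCongr hMtop.symm)).trans e.symm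
  refine ⟨T, n, hsimple, ?_, ⟨e'⟩⟩
  rcases Nat.eq_zero_or_pos n with rfl | hn
  · exact absurd e'.toEquiv.subsingleton (not_subsingleton G)
  · exact hn

/-- A finite group has a model in `Type`. -/
theorem exists_small (T : Type*) [Group T] [Finite T] :
    ∃ (S : Type) (_ : Group S), Nonempty (T ≃* S) := by
  obtain ⟨S, hS, _, e⟩ := Finite.exists_type_univ_nonempty_mulEquiv.{_, 0} T
  exact ⟨S, hS, e⟩

theorem exists_pow_type [Nontrivial G] (h : ∀ H : Subgroup G, H.Characteristic → H = ⊥ ∨ H = ⊤) :
    ∃ (S : Type) (_ : Group S) (_ : IsSimpleGroup S) (n : ℕ),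
      1 ≤ n ∧ Nonempty (G ≃* (Fin n → S)) := by
  obtain ⟨T, n, hT, hn, ⟨e⟩⟩ := exists_pow h
  obtain ⟨S, hS, ⟨f⟩⟩ := exists_small T
  refine ⟨S, hS, ?_, n, hn, ⟨e.trans (MulEquiv.piCongrRight fun _ => f)⟩⟩
  haveI := hT
  haveI : Nontrivial S := f.symm.toEquiv.nontrivial
  exact IsSimpleGroup.isSimpleGroup_of_surjective f.toMonoidHom f.surjective

omit [Finite G] in
/-- A power of a simple group is characteristically simple. -/
theorem charSimple_pi {T : Type*} [Group T] [IsSimpleGroup T] (n : ℕ)
    (H : Subgroup (Fin n → T)) (hH : H.Characteristic) : H = ⊥ ∨ H = ⊤ := by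
  classical
  by_cases hb : H = ⊥
  · exact Or.inl hb
  right
  obtain ⟨x, hxH, hx⟩ := H.ne_bot_iff_exists_ne_one.1 hb |> fun ⟨x, hx⟩ =>
    (⟨x.1, x.2, fun e => hx (Subtype.ext e)⟩ : ∃ x, x ∈ H ∧ x ≠ 1)
  obtain ⟨i, hi⟩ : ∃ i, x i ≠ 1 := by
    by_contra hcon
    push Not at hcon
    exact hx (funext hcon)
  suffices hsingle : ∃ j, ∃ t : T, t ≠ 1 ∧ Pi.mulSingle j t ∈ H by
    obtain ⟨j, t, ht, htH⟩ := hsingle
    have hall : ∀ k, ∀ s : T, Pi.mulSingle k s ∈ H := by
      intro k
      have hk : Pi.mulSingle k t ∈ H := by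
        let σ : (Fin n → T) ≃* (Fin n → T) :=
          { toEquiv := (Equiv.swap j k).arrowCongr (Equiv.refl T)
            map_mul' := fun _ _ => rfl }
        have hm : σ (Pi.mulSingle j t) ∈ H := by
          rw [← hH.fixed σ] at htH
          exact htH
        have : σ (Pi.mulSingle j t) = Pi.mulSingle k t := by
          funext l
          show Pi.mulSingle (M := fun _ => T) j t ((Equiv.swap j k).symm l) = _
          rw [Equiv.symm_swap]
          rcases eq_or_ne l k with rfl | hlk
          · simp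
          · have : Equiv.swap j k l ≠ j := by
              intro e
              apply hlk
              rw [← Equiv.swap_apply_self j k l, e, Equiv.swap_apply_left]
            simp [this, hlk]
        rwa [this] at hm
      let S : Subgroup T := H.comap (MonoidHom.mulSingle (fun _ : Fin n => T) k)
      haveI : S.Normal := Subgroup.Normal.comap inferInstance _
      rcases Subgroup.Normal.eq_bot_or_eq_top (show S.Normal from inferInstance) with h | h
      · exact absurd ((Subgroup.eq_bot_iff_forall _).1 h t hk) ht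
      · exact fun s => (h ▸ Subgroup.mem_top s : s ∈ S)
    rw [eq_top_iff]
    intro y _
    exact Subgroup.pi_mem_of_mulSingle_mem y fun k => hall k (y k)
  by_cases hc : ∃ s, s * x i ≠ x i * s
  · obtain ⟨s, hs⟩ := hc
    refine ⟨i, x i * s * (x i)⁻¹ * s⁻¹, fun e => hs ?_, ?_⟩
    · calc s * x i = (x i * s * (x i)⁻¹ * s⁻¹) * (s * x i) := by rw [e, one_mul]
        _ = x i * s := by group
    · have : Pi.mulSingle (M := fun _ => T) i (x i * s * (x i)⁻¹ * s⁻¹) =
          x * (Pi.mulSingle (M := fun _ => T) i s * x⁻¹ * (Pi.mulSingle (M := fun _ => T) i s)⁻¹) := by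
        funext l
        rcases eq_or_ne l i with rfl | hl
        · simp [mul_assoc]
        · simp [hl]
      rw [this]
      exact H.mul_mem hxH ((inferInstance : H.Normal).conj_mem _ (H.inv_mem hxH) _)
  · push Not at hc
    have hcomm : ∀ a b : T, a * b = b * a := by
      rcases Subgroup.Normal.eq_bot_or_eq_top (inferInstance : (Subgroup.center T).Normal) with h | h
      · exact absurd ((Subgroup.eq_bot_iff_forall _).1 h _ (Subgroup.mem_center_iff.2 hc)) hi
      · exact fun a b => Subgroup.mem_center_iff.1 (h ▸ Subgroup.mem_top b : b ∈ Subgroup.center T) a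
    rcases Nat.lt_or_ge 1 n with h1 | h1
    · obtain ⟨j, hji⟩ : ∃ j, j ≠ i := by
        haveI := Fin.nontrivial_iff_two_le.2 h1
        exact exists_ne i
      let sg : (Fin n → T) → (Fin n → T) := fun y => Pi.mulSingle j (y i)
      let θ : (Fin n → T) ≃* (Fin n → T) :=
        { toFun := fun y => y * sg y
          invFun := fun y => y * (sg y)⁻¹
          left_inv := fun y => by
            funext l; rcases eq_or_ne l j with rfl | hl
            · simp [sg, hji.symm, mul_assoc]
            · simp [sg, hl]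
          right_inv := fun y => by
            funext l; rcases eq_or_ne l j with rfl | hl
            · simp [sg, hji.symm, mul_assoc]
            · simp [sg, hl]
          map_mul' := fun y z => by
            funext l; rcases eq_or_ne l j with rfl | hl
            · simp only [sg, Pi.mul_apply, Pi.mulSingle_eq_same]
              rw [mul_assoc, ← mul_assoc (z l), hcomm (z l) (y i), mul_assoc, ← mul_assoc]
            · simp [sg, hl] }
      have hθ : θ x ∈ H := (show θ.toMonoidHom x ∈ H from
        Subgroup.mem_comap.1 ((hH.fixed θ).symm ▸ hxH))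
      refine ⟨j, x i, hi, ?_⟩
      have := H.mul_mem (H.inv_mem hxH) hθ
      rwa [show x⁻¹ * θ x = Pi.mulSingle j (x i) from inv_mul_cancel_left _ _] at this
    · refine ⟨i, x i, hi, ?_⟩
      have : Pi.mulSingle (M := fun _ => T) i (x i) = x := by
        funext l
        have : l = i := Fin.ext (by omega)
        subst this; simp
      rwa [this]

/-- Minimal normal subgroups are characteristically simple. -/
theorem charSimple_of_minimal {V : Subgroup G} [V.Normal]
    (hmin : ∀ M : Subgroup G, M.Normal → M ≤ V → M = ⊥ ∨ M = V) :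
    ∀ H : Subgroup V, H.Characteristic → H = ⊥ ∨ H = ⊤ := by
  intro H hH
  rcases hmin (H.map V.subtype) inferInstance (Subgroup.map_subtype_le H) with h | h
  · exact Or.inl ((Subgroup.map_eq_bot_iff_of_injective _ V.subtype_injective).1 h)
  · right
    rw [eq_top_iff]
    intro x _
    obtain ⟨v, hv, hvx⟩ : (x : G) ∈ H.map V.subtype := by rw [h]; exact x.2
    rwa [← Subtype.ext hvx]

end CfsgLib.SymMax.CharSimple
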