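import Cfsg.Agent.Lib.SymMax.IndexN

/-! Subgroups of index six in the symmetric group of degree six. -/

set_option linter.style.haveILetI false

open scoped Pointwise

namespace CfsgLib.SymMax.IndexSix

open CfsgLib.SymMax.IndexN

/-- Five synthemes, pairwise disjoint. -/
def syn (i : Fin 5) (x : Fin 6) : Fin 6 :=
  if x.1 = 5 then ⟨i.1, by omega⟩ else if x.1 = i.1 then 5 else ⟨(2 * i.1 + 5 - x.1) % 5, by omega⟩

/-- The permutations preserving the five synthemes. -/
def exoticMonoid : Submonoid (Equiv.Perm (Fin 6)) where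
  carrier := {g | ∀ i, ∃ j, ∀ x, g (syn i x) = syn j (g x)}
  one_mem' := fun i => ⟨i, fun _ => rfl⟩
  mul_mem' := fun {g h} hg hh i => by
    obtain ⟨j, hj⟩ := hh i
    obtain ⟨k, hk⟩ := hg j
    exact ⟨k, fun x => by rw [Equiv.Perm.mul_apply, Equiv.Perm.mul_apply, hj, hk]⟩

/-- The transitive subgroup of index six. -/
def exotic : Subgroup (Equiv.Perm (Fin 6)) where
  toSubmonoid := exoticMonoid
  inv_mem' := fun {g} hg => by
    have h : g⁻¹ = g ^ (orderOf g - 1) := by
      rw [inv_eq_iff_mul_eq_one, ← pow_succ', Nat.sub_add_cancel (orderOf_pos g), pow_orderOf_eq_one]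
    rw [h]
    exact exoticMonoid.pow_mem hg _

lemma exotic_card : Nat.card exotic = 120 := by
  have h : Nat.card exotic = (Finset.univ.filter fun g : Equiv.Perm (Fin 6) =>
      ∀ i, ∃ j, ∀ x, g (syn i x) = syn j (g x)).card := by
    rw [← Fintype.card_subtype, ← Nat.card_eq_fintype_card]
    exact Nat.card_congr (Equiv.subtypeEquivRight fun g => Iff.rfl)
  rw [h]
  decide +kernel

lemma exotic_moves : ∀ a : Fin 6, ∃ g : Equiv.Perm (Fin 6),
    (∀ i, ∃ j, ∀ x, g (syn i x) = syn j (g x)) ∧ g a ≠ a := by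
  decide +kernel

lemma exotic_index : exotic.index = 6 := by
  have h := exotic.index_mul_card
  rw [exotic_card, Nat.card_perm, Nat.card_eq_fintype_card, Fintype.card_fin,
    show Nat.factorial 6 = 720 from rfl] at h
  omega

variable {Ω : Type*} [Fintype Ω] [DecidableEq Ω]

lemma exists_transitive (h6 : Fintype.card Ω = 6) :
    ∃ H : Subgroup (Equiv.Perm Ω), H.index = 6 ∧ ∀ a : Ω, H ≠ MulAction.stabilizer (Equiv.Perm Ω) a := by
  let e : Equiv.Perm (Fin 6) ≃* Equiv.Perm Ω := (Fintype.equivFinOfCardEq h6).symm.permCongrHom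
  refine ⟨exotic.map e.toMonoidHom, ?_, fun a ha => ?_⟩
  · rw [Subgroup.index_map_of_bijective e.bijective, exotic_index]
  · obtain ⟨g, hg, hga⟩ := exotic_moves (Fintype.equivFinOfCardEq h6 a)
    have h : e g ∈ exotic.map e.toMonoidHom := ⟨g, hg, rfl⟩
    rw [ha, MulAction.mem_stabilizer_iff, Equiv.Perm.smul_def] at h
    apply hga
    simpa [e, Equiv.permCongr_apply] using congrArg (Fintype.equivFinOfCardEq h6) h

lemma flip (h6 : Fintype.card Ω = 6) (φ : Equiv.Perm Ω ≃* Equiv.Perm Ω)
    (h : ∀ s : Equiv.Perm Ω, s.IsSwap → (φ s).cycleType = {2, 2, 2}) :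
    (∀ s : Equiv.Perm Ω, s.IsSwap → (φ.symm s).cycleType = {2, 2, 2}) ∧
      ∀ t : Equiv.Perm Ω, t.cycleType = {2, 2, 2} → (φ.symm t).IsSwap := by
  have hn : 5 ≤ Fintype.card Ω := by omega
  haveI : Nontrivial Ω := Fintype.one_lt_card_iff_nontrivial.1 (by omega)
  obtain ⟨a, b, hab⟩ := exists_pair_ne Ω
  have hs : (Equiv.swap a b).IsSwap := Equiv.Perm.swap_isSwap_iff.2 hab
  constructor
  · rcases dichotomy hn φ.symm with hd | ⟨-, hd⟩
    · exfalso
      have h1 := symm_swaps hn φ.symm hd (Equiv.swap a b) hs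
      rw [MulEquiv.symm_symm, isSwap_iff_cycleType, h _ hs] at h1
      simpa using congrArg Multiset.card h1
    · exact hd
  · intro t ht
    have hc : IsConj (φ (Equiv.swap a b)) t :=
      Equiv.Perm.isConj_iff_cycleType_eq.2 ((h _ hs).trans ht.symm)
    have := Equiv.Perm.isConj_iff_cycleType_eq.1 (φ.symm.toMonoidHom.map_isConj hc)
    simp only [MulEquiv.toMonoidHom_eq_coe, MonoidHom.coe_coe, MulEquiv.symm_apply_apply] at this
    rw [isSwap_iff_cycleType, ← this]
    exact (isSwap_iff_cycleType _).1 hs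

lemma index_comap (φ : Equiv.Perm Ω ≃* Equiv.Perm Ω) (z : Ω) :
    ((MulAction.stabilizer (Equiv.Perm Ω) z).comap φ.toMonoidHom).index = Fintype.card Ω := by
  haveI : Nonempty Ω := ⟨z⟩
  rw [Subgroup.index_comap_of_surjective _ φ.surjective,
    MulAction.index_stabilizer_of_transitive, Nat.card_eq_fintype_card]

lemma stabilizer_injective (hn : 3 ≤ Fintype.card Ω) :
    Function.Injective fun x : Ω => MulAction.stabilizer (Equiv.Perm Ω) x := by
  intro x y hxy
  simp only at hxy
  by_contra hne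
  obtain ⟨z, hzx, hzy⟩ : ∃ z, z ≠ x ∧ z ≠ y := by
    by_contra hcon
    push Not at hcon
    have h : (Finset.univ : Finset Ω) ⊆ {x, y} := fun z _ => by
      simp only [Finset.mem_insert, Finset.mem_singleton]
      exact (em (z = x)).imp id (hcon z)
    have := (Finset.card_le_card h).trans Finset.card_le_two
    rw [Finset.card_univ] at this
    omega
  have h : Equiv.swap y z ∈ MulAction.stabilizer (Equiv.Perm Ω) x :=
    Equiv.swap_apply_of_ne_of_ne hne hzx.symm
  rw [hxy] at h
  have h' : z = y := (Equiv.swap_apply_left y z).symm.trans h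
  exact hzy h'

/-- All subgroups of index six, described with one exotic automorphism. -/
theorem classify (h6 : Fintype.card Ω = 6) :
    ∃ (φ : Equiv.Perm Ω ≃* Equiv.Perm Ω),
      (∀ (z a : Ω), (MulAction.stabilizer (Equiv.Perm Ω) z).comap φ.toMonoidHom ≠
        MulAction.stabilizer (Equiv.Perm Ω) a) ∧
      ∀ H : Subgroup (Equiv.Perm Ω), H.index = 6 →
        (∃ a : Ω, H = MulAction.stabilizer (Equiv.Perm Ω) a) ∨
          ∃ z : Ω, H = (MulAction.stabilizer (Equiv.Perm Ω) z).comap φ.toMonoidHom := by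
  classical
  have hn : 5 ≤ Fintype.card Ω := by omega
  obtain ⟨H₀, hH₀, hne₀⟩ := exists_transitive h6
  obtain ⟨φ, x, hφx⟩ := exists_auto hn H₀ (hH₀.trans h6.symm)
  have hφ : ∀ s : Equiv.Perm Ω, s.IsSwap → (φ s).cycleType = {2, 2, 2} := by
    rcases dichotomy hn φ with h | ⟨-, h⟩
    · obtain ⟨z, hz⟩ := comap_eq_stabilizer hn φ h x
      exact absurd (hφx.trans hz) (hne₀ z)
    · exact h
  refine ⟨φ, fun z a hza => ?_, fun H hH => ?_⟩
  · -- conjugates of the transitive subgroup are not point stabilizers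
    set g := φ.symm (Equiv.swap x z) with hg
    have : H₀ = MulAction.stabilizer (Equiv.Perm Ω) (g⁻¹ a) := by
      ext k
      have h1 := SetLike.ext_iff.1 hza (g * k * g⁻¹)
      rw [hφx]
      simp only [Subgroup.mem_comap, MulAction.mem_stabilizer_iff, Equiv.Perm.smul_def,
        MulEquiv.toMonoidHom_eq_coe, MonoidHom.coe_coe, map_mul, map_inv, Equiv.Perm.mul_apply,
        hg, MulEquiv.apply_symm_apply, Equiv.swap_inv, Equiv.swap_apply_right] at h1 ⊢
      constructor
      · intro hk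
        have h2 := h1.1 (by rw [hk, Equiv.swap_apply_left])
        rw [← hg] at h2 ⊢
        exact (Equiv.eq_symm_apply g).2 h2
      · intro hk
        have h2 := h1.2 (by
          rw [← hg] at hk ⊢
          rw [hk]
          exact g.apply_symm_apply a)
        exact (Equiv.swap x z).injective (h2.trans (Equiv.swap_apply_left x z).symm)
    exact hne₀ _ this
  by_cases ht : MulAction.IsPretransitive H Ω
  swap
  · exact Or.inl (eq_stabilizer_of_not_transitive H (hH.trans h6.symm) ht (by omega))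
  obtain ⟨ψ, y, hψy⟩ := exists_auto hn H (hH.trans h6.symm)
  rcases dichotomy hn ψ with h | ⟨-, h⟩
  · obtain ⟨z, hz⟩ := comap_eq_stabilizer hn ψ h y
    exact Or.inl ⟨z, hψy.trans hz⟩
  right
  have hθ : ∀ s : Equiv.Perm Ω, s.IsSwap → ((φ.symm.trans ψ) s).IsSwap := by
    intro s hs
    have h1 := (flip h6 φ hφ).1 s hs
    have h2 := (flip h6 ψ.symm (flip h6 ψ h).1).2 _ h1
    simpa using h2
  obtain ⟨z, hz⟩ := comap_eq_stabilizer hn (φ.symm.trans ψ) hθ y
  refine ⟨z, ?_⟩
  rw [← hz, hψy]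
  ext k
  simp

lemma comap_conj (φ : Equiv.Perm Ω ≃* Equiv.Perm Ω) (x z : Ω) :
    ∃ g : Equiv.Perm Ω, ((MulAction.stabilizer (Equiv.Perm Ω) x).comap φ.toMonoidHom).map
      (MulAut.conj g).toMonoidHom = (MulAction.stabilizer (Equiv.Perm Ω) z).comap φ.toMonoidHom := by
  refine ⟨φ.symm (Equiv.swap x z), ?_⟩
  ext k
  rw [Subgroup.mem_map_equiv]
  simp only [Subgroup.mem_comap, MulAction.mem_stabilizer_iff, Equiv.Perm.smul_def,
    MulEquiv.toMonoidHom_eq_coe, MonoidHom.coe_coe, MulAut.conj_symm_apply, map_mul, map_inv,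
    MulEquiv.apply_symm_apply, Equiv.swap_inv, Equiv.Perm.mul_apply, Equiv.swap_apply_left]
  constructor
  · intro h
    exact (Equiv.swap x z).injective (by rw [h, Equiv.swap_apply_right])
  · intro h
    rw [h, Equiv.swap_apply_right]

/-- The stabilizer of a point is the symmetric group on the other points. -/
lemma stabilizer_equiv (α : Ω) :
    Nonempty (MulAction.stabilizer (Equiv.Perm Ω) α ≃* Equiv.Perm {x : Ω // x ≠ α}) := by
  have hrange : (Equiv.Perm.ofSubtype : Equiv.Perm {x : Ω // x ≠ α} →* Equiv.Perm Ω).range =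
      MulAction.stabilizer (Equiv.Perm Ω) α := by
    ext g
    constructor
    · rintro ⟨h, rfl⟩
      exact Equiv.Perm.ofSubtype_apply_of_not_mem h (by simp)
    · intro hg
      have hg' : g α = α := hg
      have h1 : ∀ x, g x ≠ α ↔ x ≠ α := fun x => by
        conv_lhs => rw [← hg']
        exact g.injective.ne_iff
      exact ⟨g.subtypePerm h1,
        Equiv.Perm.ofSubtype_subtypePerm h1 (fun x hx hxα => hx (hxα ▸ hg'))⟩
  exact ⟨((MonoidHom.ofInjective Equiv.Perm.ofSubtype_injective).trans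
    (MulEquiv.subgroupCongr hrange)).symm⟩

end CfsgLib.SymMax.IndexSix
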