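import Mathlib

/-! Stabilizers of partitions into blocks of equal size. -/

set_option linter.style.haveILetI false

open scoped Pointwise

namespace CfsgLib.SymMax.Imprimitive

variable {Ω : Type*} {κ : Type*}

/-- The permutations preserving the partition into fibres of `f`. -/
def partStab (f : Ω → κ) : Subgroup (Equiv.Perm Ω) where
  carrier := {g | ∀ x y : Ω, f x = f y ↔ f (g x) = f (g y)}
  mul_mem' := fun {g h} hg hh x y => (hh x y).trans (hg (h x) (h y))
  one_mem' := fun x y => Iff.rfl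
  inv_mem' := fun {g} hg x y => by
    conv_rhs => rw [hg (g⁻¹ x) (g⁻¹ y)]
    simp

lemma closure_eq (f : Ω → κ) :
    Subgroup.closure {g : Equiv.Perm Ω | ∀ x y : Ω, f x = f y ↔ f (g x) = f (g y)} = partStab f := by
  refine le_antisymm ((Subgroup.closure_le _).2 fun g hg => hg) ?_
  intro g hg
  exact Subgroup.subset_closure hg

lemma mem_partStab {f : Ω → κ} {g : Equiv.Perm Ω} :
    g ∈ partStab f ↔ ∀ x y : Ω, f x = f y ↔ f (g x) = f (g y) := Iff.rfl

lemma swap_mem [DecidableEq Ω] {f : Ω → κ} {x z : Ω} (h : f x = f z) :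
    Equiv.swap x z ∈ partStab f := by
  have hf : ∀ w, f (Equiv.swap x z w) = f w := by
    intro w
    rcases eq_or_ne w x with rfl | hx
    · simp [h]
    rcases eq_or_ne w z with rfl | hz
    · simp [h]
    · simp [Equiv.swap_apply_of_ne_of_ne hx hz]
  intro u v
  rw [hf, hf]

variable [Finite Ω]

/-- Coordinates adapted to a partition into blocks of equal size. -/
lemma exists_coord {a : ℕ} (f : Ω → κ) (hf : ∀ i : κ, Nat.card {x : Ω // f x = i} = a) :
    ∃ e : Ω ≃ κ × Fin a, ∀ x, (e x).1 = f x := by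
  have he : ∀ i, Nonempty ({x : Ω // f x = i} ≃ Fin a) := fun i =>
    ⟨(Finite.equivFin _).trans (finCongr (hf i))⟩
  refine ⟨(Equiv.sigmaFiberEquiv f).symm.trans ((Equiv.sigmaCongrRight fun i => (he i).some).trans
    (Equiv.sigmaEquivProd κ (Fin a))), fun x => rfl⟩

/-- A permutation exchanging two blocks, fixing all the others pointwise. -/
lemma exists_block_swap [DecidableEq κ] {a : ℕ} (f : Ω → κ)
    (hf : ∀ i : κ, Nat.card {x : Ω // f x = i} = a) (i k : κ) :
    ∃ g : Equiv.Perm Ω, (∀ x, f (g x) = Equiv.swap i k (f x)) ∧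
      ∀ x, f x ≠ i → f x ≠ k → g x = x := by
  obtain ⟨e, he⟩ := exists_coord f hf
  refine ⟨e.trans (((Equiv.swap i k).prodCongr (Equiv.refl (Fin a))).trans e.symm), ?_, ?_⟩
  · intro x
    rw [← he]
    simp [he]
  · intro x hi hk
    apply e.injective
    simp only [Equiv.trans_apply, Equiv.apply_symm_apply]
    ext
    · simp [he, Equiv.swap_apply_of_ne_of_ne hi hk]
    · simp

lemma mem_of_map {f : Ω → κ} {g : Equiv.Perm Ω} (π : Equiv.Perm κ) (h : ∀ x, f (g x) = π (f x)) :
    g ∈ partStab f := by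
  intro x y
  rw [h, h, π.injective.eq_iff]

lemma exists_eq_of_fiber {a : ℕ} (ha : 1 ≤ a) {f : Ω → κ}
    (hf : ∀ i : κ, Nat.card {x : Ω // f x = i} = a) (i : κ) : ∃ x, f x = i := by
  have : Nonempty {x : Ω // f x = i} := (Nat.card_pos_iff.1 (by rw [hf i]; omega)).1
  exact ⟨this.some.1, this.some.2⟩

lemma exists_two_of_fiber {a : ℕ} (ha : 2 ≤ a) {f : Ω → κ}
    (hf : ∀ i : κ, Nat.card {x : Ω // f x = i} = a) (i : κ) :
    ∃ p q, p ≠ q ∧ f p = i ∧ f q = i := by
  have : Nontrivial {x : Ω // f x = i} := by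
    rw [← Finite.one_lt_card_iff_nontrivial, hf i]; omega
  obtain ⟨p, q, hpq⟩ := this.exists_pair_ne
  exact ⟨p, q, fun h => hpq (Subtype.ext h), p.2, q.2⟩

/-- Another point of a block, different from a given one. -/
lemma exists_other {a : ℕ} (ha : 2 ≤ a) {f : Ω → κ}
    (hf : ∀ i : κ, Nat.card {x : Ω // f x = i} = a) (i : κ) (u : Ω) :
    ∃ p, p ≠ u ∧ f p = i := by
  obtain ⟨p, q, hpq, hp, hq⟩ := exists_two_of_fiber ha hf i
  by_cases h : p = u
  · exact ⟨q, fun hqu => hpq (h.trans hqu.symm), hq⟩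
  · exact ⟨p, h, hp⟩

/-- A subgroup which moves blocks and points inside blocks sufficiently freely,
and does not preserve the partition, is primitive. -/
lemma isPreprimitive [Finite κ] [Nontrivial κ] {a : ℕ} (ha : 2 ≤ a) (f : Ω → κ)
    (hf : ∀ i : κ, Nat.card {x : Ω // f x = i} = a) (H : Subgroup (Equiv.Perm Ω))
    (h1 : ∀ x z u : Ω, f x = f z → u ≠ x → u ≠ z → ∃ g ∈ H, g u = u ∧ g x = z)
    (h2 : ∀ i k : κ, i ≠ k → ∃ g ∈ H, (∀ x, f x = i → f (g x) = k) ∧
      ∀ u, f u ≠ i → f u ≠ k → g u = u)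
    (hH : ¬ H ≤ partStab f) :
    MulAction.IsPreprimitive H Ω := by
  classical
  have htrans : MulAction.IsPretransitive H Ω := by
    constructor
    intro x y
    have key : ∃ g ∈ H, f (g x) = f y := by
      by_cases hxy : f x = f y
      · exact ⟨1, H.one_mem, hxy⟩
      · obtain ⟨g, hg, hg1, -⟩ := h2 (f x) (f y) hxy
        exact ⟨g, hg, hg1 x rfl⟩
    obtain ⟨g, hg, hfg⟩ := key
    obtain ⟨k, hk⟩ : ∃ k, k ≠ f y := exists_ne _
    obtain ⟨u, hu⟩ := exists_eq_of_fiber (by omega) hf k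
    obtain ⟨g', hg', -, hg''⟩ := h1 (g x) y u hfg
      (by rintro rfl; exact hk (hu.symm.trans hfg)) (by rintro rfl; exact hk hu.symm)
    exact ⟨⟨g' * g, H.mul_mem hg' hg⟩, hg''⟩
  -- a block with two points is a union of fibres
  have union : ∀ B : Set Ω, MulAction.IsBlock H B → ∀ x ∈ B, ∀ u ∈ B, u ≠ x →
      ∀ z, f z = f x → z ∈ B := by
    intro B hB x hx u hu hux z hz
    by_cases huz : u = z
    · rwa [← huz]
    obtain ⟨g, hg, hgu, hgx⟩ := h1 x z u hz.symm hux huz
    have hfix : (⟨g, hg⟩ : H) • B = B := MulAction.isBlock_iff_smul_eq_of_mem.1 hB hu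
      (show g u ∈ B by rw [hgu]; exact hu)
    rw [← hfix]
    exact ⟨x, hx, hgx⟩
  -- such a block is a fibre or everything
  have dich : ∀ B : Set Ω, MulAction.IsBlock H B → ∀ x ∈ B, ∀ u ∈ B, u ≠ x →
      B = {z | f z = f x} ∨ B = Set.univ := by
    intro B hB x hx u hu hux
    by_cases hall : ∀ v ∈ B, f v = f x
    · exact Or.inl (Set.Subset.antisymm hall fun z hz => union B hB x hx u hu hux z hz)
    push Not at hall
    obtain ⟨v, hv, hvx⟩ := hall
    right
    refine Set.eq_univ_iff_forall.2 fun z => ?_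
    by_cases hzx : f z = f x
    · exact union B hB x hx u hu hux z hzx
    by_cases hzv : f z = f v
    · exact union B hB v hv x hx (by rintro rfl; exact hvx rfl) z hzv
    obtain ⟨g, hg, hg1, hg2⟩ := h2 (f x) (f z) (Ne.symm hzx)
    have hgv : g v = v := hg2 v hvx (Ne.symm hzv)
    have hfix : (⟨g, hg⟩ : H) • B = B := MulAction.isBlock_iff_smul_eq_of_mem.1 hB hv
      (show g v ∈ B by rw [hgv]; exact hv)
    have hgx : g x ∈ B := hfix ▸ ⟨x, hx, rfl⟩
    have hne : g x ≠ v := by
      intro e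
      exact hzv (by rw [← e]; exact (hg1 x rfl).symm)
    exact union B hB (g x) hgx v hv (Ne.symm hne) z (hg1 x rfl).symm
  refine MulAction.IsPreprimitive.mk fun {B} hB => ?_
  rcases B.subsingleton_or_nontrivial with hBs | ⟨x, hx, u, hu, hxu⟩
  · exact Or.inl hBs
  rcases dich B hB x hx u hu hxu.symm with hBx | hBu
  swap
  · exact Or.inr hBu
  exfalso
  apply hH
  intro h hh
  -- every fibre is a block, hence mapped onto a fibre
  have hblock : ∀ i, MulAction.IsBlock H {z | f z = i} := by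
    intro i
    by_cases hi : f x = i
    · rw [← hi, ← hBx]; exact hB
    obtain ⟨g, hg, hg1, -⟩ := h2 (f x) i hi
    have himg := hB.translate (⟨g, hg⟩ : H)
    have hxu' : (⟨g, hg⟩ : H) • x ∈ (⟨g, hg⟩ : H) • B := ⟨x, hx, rfl⟩
    have huu' : (⟨g, hg⟩ : H) • u ∈ (⟨g, hg⟩ : H) • B := ⟨u, hu, rfl⟩
    rcases dich _ himg _ hxu' _ huu' (fun e => hxu.symm (MulAction.injective _ e)) with h' | h'
    · have : f ((⟨g, hg⟩ : H) • x) = i := hg1 x rfl
      rwa [← this, ← h']
    · exfalso
      have hBu : B = Set.univ := by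
        rw [← inv_smul_smul (⟨g, hg⟩ : H) B, h', Set.smul_set_univ]
      obtain ⟨k, hk⟩ := exists_ne (f x)
      obtain ⟨v, hv⟩ := exists_eq_of_fiber (by omega) hf k
      have hvB : v ∈ B := hBu ▸ Set.mem_univ v
      rw [hBx] at hvB
      exact hk (hv.symm.trans hvB)
  have step : ∀ (h : H) (p q : Ω), f p = f q → f (h • p) = f (h • q) := by
    intro h p q hpq
    rcases eq_or_ne p q with rfl | hne
    · rfl
    have himg := (hblock (f p)).translate h
    have hp : h • p ∈ h • {z | f z = f p} := ⟨p, rfl, rfl⟩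
    have hq : h • q ∈ h • {z | f z = f p} := ⟨q, hpq.symm, rfl⟩
    rcases dich _ himg _ hp _ hq (fun e => hne.symm (MulAction.injective _ e)) with h' | h'
    · rw [h'] at hq; exact (hq : f (h • q) = f (h • p)).symm
    · exfalso
      have hu : ({z | f z = f p} : Set Ω) = Set.univ := by
        rw [← inv_smul_smul h {z | f z = f p}, h', Set.smul_set_univ]
      obtain ⟨k, hk⟩ := exists_ne (f p)
      obtain ⟨v, hv⟩ := exists_eq_of_fiber (by omega) hf k
      exact hk (hv.symm.trans (hu.symm ▸ Set.mem_univ v : v ∈ {z | f z = f p}))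
  intro p q
  refine ⟨step ⟨h, hh⟩ p q, fun e => ?_⟩
  have := step ⟨h, hh⟩⁻¹ (h p) (h q) e
  simpa [Subgroup.smul_def] using this

/-- The stabilizer of a partition into blocks of equal size is maximal. -/
theorem isCoatom_partStab [DecidableEq Ω] [Finite κ] [Nontrivial κ] {a : ℕ} (ha : 2 ≤ a)
    (f : Ω → κ) (hf : ∀ i : κ, Nat.card {x : Ω // f x = i} = a) :
    IsCoatom (partStab f) := by
  classical
  obtain ⟨i, k, hik⟩ := exists_pair_ne κ
  constructor
  · intro htop
    obtain ⟨x, x', hxx', hx, hx'⟩ := exists_two_of_fiber ha hf i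
    obtain ⟨y, hy⟩ := exists_eq_of_fiber (by omega) hf k
    have h : Equiv.swap x' y ∈ partStab f := htop ▸ Subgroup.mem_top _
    have := (h x x').1 (hx.trans hx'.symm)
    rw [Equiv.swap_apply_left, Equiv.swap_apply_of_ne_of_ne hxx' (by rintro rfl; exact hik (hx.symm.trans hy))] at this
    exact hik (hx.symm.trans (this.trans hy))
  intro H hH
  have hprim : MulAction.IsPreprimitive H Ω := by
    refine isPreprimitive ha f hf H ?_ ?_ (not_le_of_gt hH)
    · intro x z u hxz hux huz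
      exact ⟨Equiv.swap x z, hH.le (swap_mem hxz), Equiv.swap_apply_of_ne_of_ne hux huz,
        Equiv.swap_apply_left _ _⟩
    · intro i k _
      obtain ⟨g, hg1, hg2⟩ := exists_block_swap f hf i k
      refine ⟨g, hH.le (mem_of_map _ hg1), fun x hx => ?_, hg2⟩
      rw [hg1, hx, Equiv.swap_apply_left]
  obtain ⟨p, q, hpq, hp, hq⟩ := exists_two_of_fiber ha hf i
  exact Equiv.Perm.subgroup_eq_top_of_isPreprimitive_of_isSwap_mem hprim (Equiv.swap p q)
    ⟨p, q, hpq, rfl⟩ (hH.le (swap_mem (hp.trans hq.symm)))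

end CfsgLib.SymMax.Imprimitive
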