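import Cfsg.Agent.Lib.SymMax.Imprimitive

/-! Even permutations stabilizing a partition into blocks of equal size. -/

set_option linter.style.haveILetI false

namespace CfsgLib.SymMax.ImprimitiveAlt

open CfsgLib.SymMax.Imprimitive

variable {Ω : Type*} {κ : Type*} [Fintype Ω] [DecidableEq Ω]

lemma swap_mul_swap_mem_alt {x z p q : Ω} (h : x ≠ z) (h' : p ≠ q) :
    Equiv.swap x z * Equiv.swap p q ∈ alternatingGroup Ω := by
  rw [Equiv.Perm.mem_alternatingGroup, map_mul, Equiv.Perm.sign_swap h, Equiv.Perm.sign_swap h']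
  rfl

lemma exists_two_ne {a : ℕ} (ha : 3 ≤ a) {f : Ω → κ}
    (hf : ∀ i : κ, Nat.card {x : Ω // f x = i} = a) (i : κ) (u : Ω) :
    ∃ p q, p ≠ q ∧ f p = i ∧ f q = i ∧ p ≠ u ∧ q ≠ u := by
  classical
  have h : (Finset.univ.filter fun x => f x = i).card = a := by
    rw [← hf i, Nat.card_eq_fintype_card, Fintype.card_subtype]
  have h2 : 1 < ((Finset.univ.filter fun x => f x = i).erase u).card := by
    have := Finset.pred_card_le_card_erase (s := Finset.univ.filter fun x => f x = i) (a := u)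
    omega
  obtain ⟨p, hp, q, hq, hpq⟩ := Finset.one_lt_card.1 h2
  simp only [Finset.mem_erase, Finset.mem_filter, Finset.mem_univ, true_and] at hp hq
  exact ⟨p, q, hpq, hp.2, hq.2, hp.1, hq.1⟩

lemma moves_in_block [Finite κ] [Nontrivial κ] {a : ℕ} (ha : 2 ≤ a)
    (hbig : 3 ≤ a ∨ 3 ≤ Nat.card κ) {f : Ω → κ}
    (hf : ∀ i : κ, Nat.card {x : Ω // f x = i} = a)
    (x z u : Ω) (hxz : f x = f z) (hux : u ≠ x) (huz : u ≠ z) :
    ∃ g ∈ partStab f ⊓ alternatingGroup Ω, g u = u ∧ g x = z := by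
  rcases eq_or_ne x z with rfl | hne
  · exact ⟨1, one_mem _, rfl, rfl⟩
  obtain ⟨p, q, hpq, hf', hp, hq, hpu, hqu⟩ : ∃ p q, p ≠ q ∧ f p = f q ∧
      (p ≠ x ∧ p ≠ z) ∧ (q ≠ x ∧ q ≠ z) ∧ p ≠ u ∧ q ≠ u := by
    by_cases h : ∃ i, i ≠ f x ∧ i ≠ f u
    · obtain ⟨i, hix, hiu⟩ := h
      obtain ⟨p, q, hpq, hp, hq⟩ := exists_two_of_fiber ha hf i
      exact ⟨p, q, hpq, hp.trans hq.symm, by grind, by grind, by grind, by grind⟩
    push Not at h
    obtain ⟨i, hi⟩ := exists_ne (f x)
    have hiu := h i hi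
    have ha3 : 3 ≤ a := by
      rcases hbig with h' | h'
      · exact h'
      · exfalso
        classical
        haveI := Fintype.ofFinite κ
        have : (Finset.univ : Finset κ) ⊆ {f x, f u} := fun j _ => by
          simp only [Finset.mem_insert, Finset.mem_singleton]
          exact (em (j = f x)).imp id (h j)
        have := (Finset.card_le_card this).trans Finset.card_le_two
        rw [Finset.card_univ, ← Nat.card_eq_fintype_card] at this
        omega
    obtain ⟨p, q, hpq, hp, hq, hpu, hqu⟩ := exists_two_ne ha3 hf i u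
    exact ⟨p, q, hpq, hp.trans hq.symm, by grind, by grind, hpu, hqu⟩
  refine ⟨Equiv.swap x z * Equiv.swap p q,
    ⟨(partStab f).mul_mem (swap_mem hxz) (swap_mem hf'), swap_mul_swap_mem_alt hne hpq⟩, ?_, ?_⟩
  · rw [Equiv.Perm.mul_apply, Equiv.swap_apply_of_ne_of_ne hpu.symm hqu.symm,
      Equiv.swap_apply_of_ne_of_ne hux huz]
  · rw [Equiv.Perm.mul_apply, Equiv.swap_apply_of_ne_of_ne hp.1.symm hq.1.symm,
      Equiv.swap_apply_left]

lemma moves_blocks {a : ℕ} (ha : 2 ≤ a) {f : Ω → κ}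
    (hf : ∀ i : κ, Nat.card {x : Ω // f x = i} = a) (i k : κ) :
    ∃ g ∈ partStab f ⊓ alternatingGroup Ω, (∀ x, f x = i → f (g x) = k) ∧
      ∀ u, f u ≠ i → f u ≠ k → g u = u := by
  classical
  obtain ⟨g, hg1, hg2⟩ := exists_block_swap f hf i k
  have hgP := mem_of_map _ hg1
  rcases Int.units_eq_one_or (Equiv.Perm.sign g) with hs | hs
  · exact ⟨g, ⟨hgP, hs⟩, fun x hx => by rw [hg1, hx, Equiv.swap_apply_left], hg2⟩
  obtain ⟨p, q, hpq, hp, hq⟩ := exists_two_of_fiber ha hf i
  refine ⟨g * Equiv.swap p q,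
    ⟨(partStab f).mul_mem hgP (swap_mem (hp.trans hq.symm)), Equiv.Perm.mem_alternatingGroup.2 ?_⟩,
    fun x hx => ?_, fun u hui huk => ?_⟩
  · rw [map_mul, hs, Equiv.Perm.sign_swap hpq]; rfl
  · rw [Equiv.Perm.mul_apply, hg1]
    have : f (Equiv.swap p q x) = i := by
      rw [Equiv.swap_apply_def]
      grind
    rw [this, Equiv.swap_apply_left]
  · rw [Equiv.Perm.mul_apply, Equiv.swap_apply_of_ne_of_ne (by grind) (by grind), hg2 u hui huk]

lemma conj_swap (g : Equiv.Perm Ω) (x y : Ω) :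
    g * Equiv.swap x y * g⁻¹ = Equiv.swap (g x) (g y) := (Equiv.swap_apply_apply g x y).symm

/-- With blocks of size two and at least five of them, a permutation group containing the even
block preserving permutations and not preserving the partition contains a three-cycle. -/
lemma exists_threeCycle [Finite κ] {f : Ω → κ}
    (hf : ∀ i : κ, Nat.card {x : Ω // f x = i} = 2) (hb : 5 ≤ Nat.card κ)
    (H : Subgroup (Equiv.Perm Ω)) (hle : partStab f ⊓ alternatingGroup Ω ≤ H)
    (hH : ¬ H ≤ partStab f) : ∃ c ∈ H, c.IsThreeCycle := by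
  classical
  haveI := Fintype.ofFinite κ
  rw [Nat.card_eq_fintype_card] at hb
  have avoid : ∀ s : Finset κ, s.card < Fintype.card κ → ∃ j, j ∉ s := by
    intro s hs
    by_contra hcon
    push Not at hcon
    rw [Finset.eq_univ_of_forall hcon, Finset.card_univ] at hs
    omega
  obtain ⟨g, hgH, u, v, huv, hguv⟩ : ∃ g ∈ H, ∃ u v, f u = f v ∧ f (g u) ≠ f (g v) := by
    obtain ⟨g, hg, hg'⟩ := SetLike.not_le_iff_exists.1 hH
    rw [mem_partStab] at hg'
    push Not at hg'
    obtain ⟨x, y, ⟨h, h'⟩ | ⟨h, h'⟩⟩ := hg'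
    · exact ⟨g, hg, x, y, h, h'⟩
    · exact ⟨g⁻¹, H.inv_mem hg, g x, g y, h', by simpa using h⟩
  have huv' : u ≠ v := by rintro rfl; exact hguv rfl
  set p := g u with hp
  set q := g v with hq
  obtain ⟨p', hp'ne, hp'⟩ := exists_other le_rfl hf (f p) p
  have hp'q : p' ≠ q := by rintro rfl; exact hguv hp'.symm
  obtain ⟨j, hj⟩ := avoid {f u, f (g⁻¹ p')} (lt_of_le_of_lt Finset.card_le_two (by omega))
  simp only [Finset.mem_insert, Finset.mem_singleton, not_or] at hj
  obtain ⟨w, z, hwz, hw, hz⟩ := exists_two_of_fiber le_rfl hf j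
  set e := Equiv.swap p q * Equiv.swap (g w) (g z) with he
  have heH : e ∈ H := by
    have h' : Equiv.swap u v * Equiv.swap w z ∈ H := hle
      ⟨(partStab f).mul_mem (swap_mem huv) (swap_mem (hw.trans hz.symm)),
        swap_mul_swap_mem_alt huv' hwz⟩
    have : e = g * (Equiv.swap u v * Equiv.swap w z) * g⁻¹ := by
      rw [he, ← conj_swap g w z, hp, hq, ← conj_swap g u v]; group
    rw [this]
    exact H.mul_mem (H.mul_mem hgH h') (H.inv_mem hgH)
  obtain ⟨l, hl⟩ := avoid {f p, f q, f (g w), f (g z)}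
    (lt_of_le_of_lt Finset.card_le_four (by omega))
  simp only [Finset.mem_insert, Finset.mem_singleton, not_or] at hl
  obtain ⟨s, s', hss, hs, hs'⟩ := exists_two_of_fiber le_rfl hf l
  set d := Equiv.swap p p' * Equiv.swap s s' with hd
  have hdH : d ∈ H := hle ⟨(partStab f).mul_mem (swap_mem hp'.symm) (swap_mem (hs.trans hs'.symm)),
    swap_mul_swap_mem_alt hp'ne.symm hss⟩
  have hfix : ∀ y, f y = l → e y = y := by
    intro y hy
    rw [he, Equiv.Perm.mul_apply, Equiv.swap_apply_of_ne_of_ne (by grind) (by grind),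
      Equiv.swap_apply_of_ne_of_ne (by grind) (by grind)]
  have hep : e p = q := by
    have h1 : p ≠ g w := by intro h; exact hj.1 (by rw [← hw, g.injective (show g u = g w from h)])
    have h2 : p ≠ g z := by intro h; exact hj.1 (by rw [← hz, g.injective (show g u = g z from h)])
    rw [he, Equiv.Perm.mul_apply, Equiv.swap_apply_of_ne_of_ne h1 h2, Equiv.swap_apply_left]
  have hep' : e p' = p' := by
    have h1 : p' ≠ g w := by intro h; exact hj.2 (by rw [← hw, h]; simp)
    have h2 : p' ≠ g z := by intro h; exact hj.2 (by rw [← hz, h]; simp)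
    rw [he, Equiv.Perm.mul_apply, Equiv.swap_apply_of_ne_of_ne h1 h2,
      Equiv.swap_apply_of_ne_of_ne hp'ne hp'q]
  have hfl : ∀ y, f y = f p → s ≠ y ∧ s' ≠ y := by grind
  have hcomm : Equiv.swap s s' * Equiv.swap p p' = Equiv.swap p p' * Equiv.swap s s' := by
    rw [← mul_inv_eq_iff_eq_mul, conj_swap,
      Equiv.swap_apply_of_ne_of_ne (hfl p rfl).1.symm (hfl p rfl).2.symm,
      Equiv.swap_apply_of_ne_of_ne (hfl p' hp').1.symm (hfl p' hp').2.symm]
  have hc : e * d * e⁻¹ * d = Equiv.swap p' q * Equiv.swap p' p := by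
    have : e * d * e⁻¹ = Equiv.swap q p' * Equiv.swap s s' := by
      have h1 := conj_swap e p p'
      have h2 := conj_swap e s s'
      rw [hep, hep'] at h1
      rw [hfix s hs, hfix s' hs'] at h2
      calc e * d * e⁻¹ = (e * Equiv.swap p p' * e⁻¹) * (e * Equiv.swap s s' * e⁻¹) := by
            rw [hd]; group
        _ = _ := by rw [h1, h2]
    rw [this, hd, mul_assoc, ← mul_assoc (Equiv.swap s s') (Equiv.swap p p'), hcomm, mul_assoc,
      Equiv.swap_mul_self, mul_one, Equiv.swap_comm q p', Equiv.swap_comm p p']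
  refine ⟨_, H.mul_mem (H.mul_mem (H.mul_mem heH hdH) (H.inv_mem heH)) hdH, ?_⟩
  rw [hc]
  refine Equiv.Perm.isThreeCycle_swap_mul_swap_same hp'q hp'ne ?_
  intro h
  exact hguv (congrArg f h.symm)

lemma not_alt_le [Nontrivial κ] {a : ℕ} (ha : 2 ≤ a) {f : Ω → κ}
    (hf : ∀ i : κ, Nat.card {x : Ω // f x = i} = a) :
    ¬ alternatingGroup Ω ≤ partStab f := by
  intro hle
  obtain ⟨i, k, hik⟩ := exists_pair_ne κ
  obtain ⟨x, x', hxx', hx, hx'⟩ := exists_two_of_fiber ha hf i
  obtain ⟨y, y', hyy', hy, hy'⟩ := exists_two_of_fiber ha hf k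
  have h := hle (swap_mul_swap_mem_alt (x := x') (z := y) (p := x') (q := y')
    (by grind) (by grind))
  have := (h x x').1 (hx.trans hx'.symm)
  rw [Equiv.Perm.mul_apply, Equiv.Perm.mul_apply, Equiv.swap_apply_left,
    Equiv.swap_apply_of_ne_of_ne (a := x') (b := y') (x := x) hxx' (by grind),
    Equiv.swap_apply_of_ne_of_ne (a := x') (b := y) (x := x) hxx' (by grind),
    Equiv.swap_apply_of_ne_of_ne (a := x') (b := y) (x := y') (by grind) hyy'.symm] at this
  grind

/-- Maximality in the alternating group, when the blocks have size at least three or there are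
at least five of them. -/
theorem isCoatom_big [Finite κ] [Nontrivial κ] {a : ℕ} (ha : 2 ≤ a)
    (hbig : 3 ≤ a ∨ 5 ≤ Nat.card κ) {f : Ω → κ}
    (hf : ∀ i : κ, Nat.card {x : Ω // f x = i} = a) :
    IsCoatom ((partStab f ⊓ alternatingGroup Ω).subgroupOf (alternatingGroup Ω)) := by
  classical
  constructor
  · intro h
    rw [Subgroup.subgroupOf_eq_top] at h
    exact not_alt_le ha hf (h.trans inf_le_left)
  intro K hK
  set H := K.map (alternatingGroup Ω).subtype with hHdef
  have hle : partStab f ⊓ alternatingGroup Ω ≤ H := by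
    intro g hg
    exact ⟨⟨g, hg.2⟩, hK.le (Subgroup.mem_subgroupOf.2 hg), rfl⟩
  have hnot : ¬ H ≤ partStab f := by
    intro hHP
    apply not_le_of_gt hK
    intro k hk
    exact Subgroup.mem_subgroupOf.2 ⟨hHP ⟨k, hk, rfl⟩, k.2⟩
  have hprim : MulAction.IsPreprimitive H Ω := by
    refine isPreprimitive ha f hf H ?_ ?_ hnot
    · intro x z u hxz hux huz
      obtain ⟨g, hg, h⟩ := moves_in_block ha (hbig.imp_right (by omega)) hf x z u hxz hux huz
      exact ⟨g, hle hg, h⟩
    · intro i k _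
      obtain ⟨g, hg, h⟩ := moves_blocks ha hf i k
      exact ⟨g, hle hg, h⟩
  obtain ⟨c, hcH, hc⟩ : ∃ c ∈ H, c.IsThreeCycle := by
    rcases le_or_gt 3 a with ha3 | ha3
    · obtain ⟨i⟩ : Nonempty κ := inferInstance
      obtain ⟨u, hu⟩ := exists_eq_of_fiber (by omega) hf i
      obtain ⟨p, q, hpq, hp, hq, hpu, hqu⟩ := exists_two_ne ha3 hf i u
      exact ⟨_, hle ⟨(partStab f).mul_mem (swap_mem (hu.trans hp.symm)) (swap_mem (hu.trans hq.symm)),
          swap_mul_swap_mem_alt hpu.symm hqu.symm⟩,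
        Equiv.Perm.isThreeCycle_swap_mul_swap_same hpu.symm hqu.symm hpq⟩
    · obtain rfl : a = 2 := by omega
      exact exists_threeCycle hf (hbig.resolve_left (by omega)) H hle hnot
  have hA := Equiv.Perm.alternatingGroup_le_of_isPreprimitive_of_isThreeCycle_mem hprim hc hcH
  rw [eq_top_iff]
  intro x _
  obtain ⟨k, hk, hkx⟩ := hA x.2
  rwa [← Subtype.ext hkx]

end CfsgLib.SymMax.ImprimitiveAlt
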