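import Cfsg.Agent.Lib.SymMax.ImprimitiveAlt

/-! The small cases `4 = 2 * 2` and `6 = 3 * 2`. -/

set_option linter.style.haveILetI false

namespace CfsgLib.SymMax.ImprimitiveSmall

open CfsgLib.SymMax.Imprimitive

variable {Ω : Type*} {κ : Type*} [Fintype Ω] [DecidableEq Ω] [Fintype κ] [DecidableEq κ]

lemma card_partStab_inf {a : ℕ} {f : Ω → κ} (hf : ∀ i : κ, Nat.card {x : Ω // f x = i} = a) :
    Nat.card (partStab f ⊓ alternatingGroup Ω : Subgroup (Equiv.Perm Ω)) =
      (Finset.univ.filter fun σ : Equiv.Perm (κ × Fin a) =>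
        (∀ x y : κ × Fin a, x.1 = y.1 ↔ (σ x).1 = (σ y).1) ∧ Equiv.Perm.sign σ = 1).card := by
  obtain ⟨e, he⟩ := exists_coord f hf
  rw [← Fintype.card_subtype, ← Nat.card_eq_fintype_card]
  refine Nat.card_congr (Equiv.subtypeEquiv e.permCongr ?_)
  intro σ
  rw [Subgroup.mem_inf, Equiv.Perm.mem_alternatingGroup, Equiv.Perm.sign_permCongr]
  refine and_congr ⟨fun h x y => ?_, fun h x y => ?_⟩ Iff.rfl
  · simp only [Equiv.permCongr_apply, he]
    rw [← h, ← he, ← he, Equiv.apply_symm_apply, Equiv.apply_symm_apply]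
  · have := h (e x) (e y)
    simp only [Equiv.permCongr_apply, he, Equiv.symm_apply_apply] at this
    exact this

lemma card_four {f : Ω → Fin 2} (hf : ∀ i, Nat.card {x : Ω // f x = i} = 2) :
    Nat.card (partStab f ⊓ alternatingGroup Ω : Subgroup (Equiv.Perm Ω)) = 4 := by
  rw [card_partStab_inf hf]
  decide +kernel

lemma card_six {f : Ω → Fin 3} (hf : ∀ i, Nat.card {x : Ω // f x = i} = 2) :
    Nat.card (partStab f ⊓ alternatingGroup Ω : Subgroup (Equiv.Perm Ω)) = 24 := by
  rw [card_partStab_inf hf]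
  decide +kernel

lemma card_eq {a b : ℕ} {f : Ω → Fin b} (hf : ∀ i, Nat.card {x : Ω // f x = i} = a) :
    Fintype.card Ω = b * a := by
  obtain ⟨e, -⟩ := exists_coord f hf
  rw [Fintype.card_congr e, Fintype.card_prod, Fintype.card_fin, Fintype.card_fin]

lemma index_mul {a b : ℕ} {f : Ω → Fin b} (hn : 2 ≤ b * a)
    (hf : ∀ i, Nat.card {x : Ω // f x = i} = a) :
    2 * (((partStab f ⊓ alternatingGroup Ω).subgroupOf (alternatingGroup Ω)).index *
      Nat.card (partStab f ⊓ alternatingGroup Ω : Subgroup (Equiv.Perm Ω))) = (b * a).factorial := by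
  haveI : Nontrivial Ω := Fintype.one_lt_card_iff_nontrivial.1 (by rw [card_eq hf]; omega)
  rw [← Nat.card_congr (Subgroup.subgroupOfEquivOfLe (inf_le_right :
      partStab f ⊓ alternatingGroup Ω ≤ alternatingGroup Ω)).toEquiv,
    Subgroup.index_mul_card, two_mul_nat_card_alternatingGroup, Nat.card_perm,
    Nat.card_eq_fintype_card, card_eq hf]

theorem isCoatom_four {f : Ω → Fin 2} (hf : ∀ i, Nat.card {x : Ω // f x = i} = 2) :
    IsCoatom ((partStab f ⊓ alternatingGroup Ω).subgroupOf (alternatingGroup Ω)) := by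
  have h := index_mul (by norm_num) hf
  rw [card_four hf, show Nat.factorial (2 * 2) = 24 from rfl] at h
  set P := (partStab f ⊓ alternatingGroup Ω).subgroupOf (alternatingGroup Ω)
  have h3 : P.index = 3 := by omega
  constructor
  · intro ht; rw [ht, Subgroup.index_top] at h3; omega
  intro K hK
  rcases (Nat.dvd_prime Nat.prime_three).1 (h3 ▸ Subgroup.index_dvd_of_le hK.le) with h' | h'
  · exact Subgroup.index_eq_one.1 h'
  · exact absurd (Subgroup.index_strictAnti hK) (by omega)

theorem isCoatom_six {f : Ω → Fin 3} (hf : ∀ i, Nat.card {x : Ω // f x = i} = 2) :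
    IsCoatom ((partStab f ⊓ alternatingGroup Ω).subgroupOf (alternatingGroup Ω)) := by
  have hn : Fintype.card Ω = 6 := card_eq hf
  have h := index_mul (by norm_num) hf
  rw [card_six hf, show Nat.factorial (3 * 2) = 720 from rfl] at h
  set P := (partStab f ⊓ alternatingGroup Ω).subgroupOf (alternatingGroup Ω) with hP
  have h15 : P.index = 15 := by omega
  haveI : IsSimpleGroup (alternatingGroup Ω) :=
    alternatingGroup.isSimpleGroup (by rw [Nat.card_eq_fintype_card]; omega)
  haveI : Nontrivial Ω := Fintype.one_lt_card_iff_nontrivial.1 (by omega)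
  have hA : Nat.card (alternatingGroup Ω) = 360 := by
    have := two_mul_nat_card_alternatingGroup (α := Ω)
    rw [Nat.card_perm, Nat.card_eq_fintype_card (α := Ω), hn, show Nat.factorial 6 = 720 from rfl] at this
    omega
  constructor
  · intro ht; rw [ht, Subgroup.index_top] at h15; omega
  intro K hK
  by_contra hKtop
  have hdvd : K.index ∣ 15 := h15 ▸ Subgroup.index_dvd_of_le hK.le
  have hlt : K.index < 15 := h15 ▸ Subgroup.index_strictAnti hK
  have hcore : K.normalCore = ⊥ := by
    rcases K.normalCore_normal.eq_bot_or_eq_top with h' | h'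
    · exact h'
    · exact absurd (top_le_iff.1 (h' ▸ K.normalCore_le)) hKtop
  have hbound : Nat.card (alternatingGroup Ω) ∣ (K.index).factorial := by
    have hinj : Function.Injective (MulAction.toPermHom (alternatingGroup Ω) (alternatingGroup Ω ⧸ K)) := by
      rw [← MonoidHom.ker_eq_bot_iff, ← Subgroup.normalCore_eq_ker, hcore]
    have := Subgroup.card_dvd_of_injective _ hinj
    rwa [Nat.card_perm] at this
  have hle : K.index ≤ 5 := by
    have key : ∀ n, n < 15 → n ∣ 15 → n ≤ 5 := by decide
    exact key _ hlt hdvd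
  have := Nat.le_of_dvd (Nat.factorial_pos _) hbound
  rw [hA] at this
  have := Nat.factorial_le hle
  simp [Nat.factorial] at this
  omega

end CfsgLib.SymMax.ImprimitiveSmall
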