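import Mathlib
import Cfsg.Agent.Lib.Perm.Basic

/-!
# Maximal overgroups of a Sylow 2-subgroup of a symmetric or alternating group

A Sylow 2-subgroup lies in exactly one maximal subgroup precisely in degree `2 ^ k + 1`: otherwise
two different proper overgroups (partition stabilisers, or the centraliser of a central involution)
generate everything.
-/

set_option autoImplicit false
set_option linter.style.haveILetI false

namespace CfsgLib.SymMax.SylowTwoOvergroups

open Equiv Equiv.Perm MulAction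

variable {α : Type*} [Fintype α] [DecidableEq α]

/-- The stabiliser of a two-part partition. -/
def partStab (χ : α → Prop) : Subgroup (Perm α) where
  carrier := {g | ∀ a b, (χ a ↔ χ b) ↔ (χ (g a) ↔ χ (g b))}
  one_mem' := fun _ _ => Iff.rfl
  mul_mem' := fun {g h} hg hh a b => (hh a b).trans (hg (h a) (h b))
  inv_mem' := fun {g} hg a b => by
    have := (hg (g⁻¹ a) (g⁻¹ b)).symm
    simpa using this

omit [Fintype α] in
theorem swap_mem_partStab {χ : α → Prop} {x y : α} (h : χ x ↔ χ y) : swap x y ∈ partStab χ := by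
  intro a b
  have key : ∀ z, χ (swap x y z) ↔ χ z := fun z => by
    rcases eq_or_ne z x with rfl | hx
    · rw [swap_apply_left]; exact h.symm
    rcases eq_or_ne z y with rfl | hy
    · rw [swap_apply_right]; exact h
    rw [swap_apply_of_ne_of_ne hx hy]
  rw [key, key]

omit [Fintype α] in
theorem swap_mul_swap_conj (g : Perm α) (a b : α) : g * swap a b * g⁻¹ = swap (g a) (g b) :=
  (Equiv.swap_apply_apply g a b).symm

omit [Fintype α] in
theorem swap_trans {H : Subgroup (Perm α)} {a b c : α} (h1 : swap a b ∈ H) (h2 : swap b c ∈ H) :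
    swap a c ∈ H := by
  rcases eq_or_ne a b with rfl | hab
  · exact h2
  rcases eq_or_ne a c with rfl | hac
  · rw [swap_self]; exact one_mem H
  rcases eq_or_ne b c with rfl | hbc
  · exact h1
  have := H.mul_mem (H.mul_mem h2 h1) (H.inv_mem h2)
  rw [swap_mul_swap_conj, swap_apply_of_ne_of_ne hab hac, swap_apply_left] at this
  exact this

/-- A subgroup containing the inner transpositions and one element moving the partition is everything. -/
theorem eq_top_of_moves {χ : α → Prop} {H : Subgroup (Perm α)}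
    (hsw : ∀ x y, (χ x ↔ χ y) → swap x y ∈ H) {g : Perm α} (hg : g ∈ H) (hgχ : g ∉ partStab χ) :
    H = ⊤ := by
  classical
  obtain ⟨u, v, huv, hmem⟩ : ∃ u v, ¬ (χ u ↔ χ v) ∧ swap u v ∈ H := by
    change ¬ ∀ a b, _ at hgχ
    push Not at hgχ
    obtain ⟨a, b, hab⟩ := hgχ
    rcases hab with ⟨h1, h2⟩ | ⟨h1, h2⟩
    · refine ⟨g a, g b, ?_, ?_⟩
      · tauto
      · rw [← swap_mul_swap_conj]; exact H.mul_mem (H.mul_mem hg (hsw a b h1)) (H.inv_mem hg)
    · refine ⟨a, b, ?_, ?_⟩
      · tauto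
      · have := H.mul_mem (H.mul_mem (H.inv_mem hg) (hsw (g a) (g b) (by tauto))) (H.inv_mem (H.inv_mem hg))
        rw [swap_mul_swap_conj] at this
        simpa using this
  rw [eq_top_iff, ← Equiv.Perm.closure_isSwap, Subgroup.closure_le]
  rintro _ ⟨x, y, -, rfl⟩
  by_cases h : χ x ↔ χ y
  · exact hsw x y h
  by_cases hxu : χ x ↔ χ u
  · exact swap_trans (swap_trans (hsw x u hxu) hmem) (hsw v y (by tauto))
  · rw [swap_comm u v] at hmem
    exact swap_trans (swap_trans (hsw x v (by tauto)) hmem) (hsw u y (by tauto))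

omit [Fintype α] in
theorem not_mem_partStab_swap {χ : α → Prop} {a b c : α} (hab : a ≠ b) (h : χ a ↔ χ b)
    (hc : ¬ (χ a ↔ χ c)) : swap a c ∉ partStab χ := by
  intro hm
  have hbc : b ≠ c := fun e => hc (e ▸ h)
  have := (hm a b).1 h
  rw [swap_apply_left, swap_apply_of_ne_of_ne hab.symm hbc] at this
  tauto

theorem partStab_ne_top {χ : α → Prop} {a b c : α} (hab : a ≠ b) (h : χ a ↔ χ b) (hc : ¬ (χ a ↔ χ c)) :
    partStab χ ≠ ⊤ := fun e => not_mem_partStab_swap hab h hc (e ▸ Subgroup.mem_top _)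

/-- Two proper overgroups of `R` which generate the symmetric group, one containing the inner
transpositions of a partition. -/
def Bad (R : Subgroup (Perm α)) : Prop :=
  ∃ (χ : α → Prop) (H : Subgroup (Perm α)), R ≤ partStab χ ∧ R ≤ H ∧ partStab χ ≠ ⊤ ∧ H ≠ ⊤ ∧
    ∃ g ∈ H, g ∉ partStab χ

theorem two_overgroups {R : Subgroup (Perm α)} (h : Bad R) :
    ∃ P H : Subgroup (Perm α), R ≤ P ∧ R ≤ H ∧ P ≠ ⊤ ∧ H ≠ ⊤ ∧
      ∀ L : Subgroup (Perm α), P ≤ L → H ≤ L → L = ⊤ := by
  obtain ⟨χ, H, h1, h2, h3, h4, g, hg, hgχ⟩ := h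
  exact ⟨_, H, h1, h2, h3, h4, fun L hP hH =>
    eq_top_of_moves (fun x y hxy => hP (swap_mem_partStab hxy)) (hH hg) hgχ⟩

theorem not_unique {G : Type*} [Group G] [Finite G] {R P H : Subgroup G} (hP : R ≤ P) (hH : R ≤ H)
    (hP' : P ≠ ⊤) (hH' : H ≠ ⊤) (hjoin : ∀ L : Subgroup G, P ≤ L → H ≤ L → L = ⊤) :
    ¬ ∃! M : Subgroup G, IsCoatom M ∧ R ≤ M := by
  rintro ⟨M, hM, huniq⟩
  obtain ⟨M1, h1, h1'⟩ := (eq_top_or_exists_le_coatom P).resolve_left hP'
  obtain ⟨M2, h2, h2'⟩ := (eq_top_or_exists_le_coatom H).resolve_left hH'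
  rw [huniq M1 ⟨h1, hP.trans h1'⟩] at h1'
  rw [huniq M2 ⟨h2, hH.trans h2'⟩] at h2'
  exact hM.1.1 (hjoin M h1' h2')

/-- The same in the alternating group. -/
theorem not_unique_alt {R P H : Subgroup (Perm α)} {τ : Perm α} (hτR : τ ∈ R) (hτ : sign τ = -1)
    (hP : R ≤ P) (hH : R ≤ H) (hP' : P ≠ ⊤) (hH' : H ≠ ⊤)
    (hjoin : ∀ L : Subgroup (Perm α), P ≤ L → H ≤ L → L = ⊤) :
    ¬ ∃! M : Subgroup (alternatingGroup α), IsCoatom M ∧ R.subgroupOf (alternatingGroup α) ≤ M := by
  classical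
  have hττ : τ * τ ∈ alternatingGroup α := by rw [mem_alternatingGroup, map_mul, hτ]; rfl
  have hprop : ∀ Q : Subgroup (Perm α), τ ∈ Q → Q ≠ ⊤ → Q.subgroupOf (alternatingGroup α) ≠ ⊤ := by
    intro Q hτQ hQ e
    rw [Subgroup.subgroupOf_eq_top] at e
    refine hQ (eq_top_iff.2 fun g _ => ?_)
    rcases Int.units_eq_one_or (sign g) with hg | hg
    · exact e (mem_alternatingGroup.2 hg)
    · have : g * τ ∈ Q := e (mem_alternatingGroup.2 (by rw [map_mul, hg, hτ]; rfl))
      simpa using Q.mul_mem this (Q.inv_mem hτQ)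
  refine not_unique (P := P.subgroupOf _) (H := H.subgroupOf _) (fun x hx => hP hx) (fun x hx => hH hx)
    (hprop P (hP hτR) hP') (hprop H (hH hτR) hH') fun L hPL hHL => ?_
  set P0 := P ⊓ alternatingGroup α
  set H0 := H ⊓ alternatingGroup α
  set K := P0 ⊔ H0
  have hKL : K ≤ L.map (alternatingGroup α).subtype := by
    refine sup_le ?_ ?_
    · rintro g ⟨hg, hga⟩
      exact Subgroup.mem_map.2 ⟨⟨g, hga⟩, hPL hg, rfl⟩
    · rintro g ⟨hg, hga⟩
      exact Subgroup.mem_map.2 ⟨⟨g, hga⟩, hHL hg, rfl⟩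
  have hKA : K ≤ alternatingGroup α := sup_le inf_le_right inf_le_right
  have hconj : ∀ Q : Subgroup (Perm α), τ ∈ Q → ∀ g ∈ Q ⊓ alternatingGroup α,
      τ * g * τ⁻¹ ∈ Q ⊓ alternatingGroup α := fun Q hτQ g hg =>
    ⟨Q.mul_mem (Q.mul_mem hτQ hg.1) (Q.inv_mem hτQ), by
      show τ * g * τ⁻¹ ∈ alternatingGroup α
      rw [mem_alternatingGroup, map_mul, map_mul, map_inv, mem_alternatingGroup.1 hg.2, hτ]; rfl⟩
  have hKconj : ∀ g ∈ K, τ * g * τ⁻¹ ∈ K := by
    have : K ≤ K.comap (MulAut.conj τ).toMonoidHom := sup_le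
      (fun g hg => (le_sup_left : P0 ≤ K) (hconj P (hP hτR) g hg))
      (fun g hg => (le_sup_right : H0 ≤ K) (hconj H (hH hτR) g hg))
    exact fun g hg => this hg
  have hτ2 : τ * τ ∈ K := (le_sup_left : P0 ≤ K) ⟨P.mul_mem (hP hτR) (hP hτR), hττ⟩
  have hKconj' : ∀ g ∈ K, τ⁻¹ * g * τ ∈ K := fun g hg => by
    have := K.mul_mem (K.mul_mem (K.inv_mem hτ2) (hKconj g hg)) hτ2
    rwa [show (τ * τ)⁻¹ * (τ * g * τ⁻¹) * (τ * τ) = τ⁻¹ * g * τ by group] at this
  let L' : Subgroup (Perm α) :=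
    { carrier := {g | g ∈ K ∨ g * τ ∈ K}
      one_mem' := Or.inl K.one_mem
      mul_mem' := by
        rintro x y (hx | hx) (hy | hy)
        · exact Or.inl (K.mul_mem hx hy)
        · exact Or.inr (by rw [mul_assoc]; exact K.mul_mem hx hy)
        · refine Or.inr ?_
          rw [show x * y * τ = x * τ * (τ⁻¹ * y * τ) by group]
          exact K.mul_mem hx (hKconj' y hy)
        · refine Or.inl ?_
          rw [show x * y = x * τ * (τ⁻¹ * (y * τ) * τ) * (τ * τ)⁻¹ by group]
          exact K.mul_mem (K.mul_mem hx (hKconj' _ hy)) (K.inv_mem hτ2)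
      inv_mem' := by
        rintro x (hx | hx)
        · exact Or.inl (K.inv_mem hx)
        · refine Or.inr ?_
          rw [show x⁻¹ * τ = τ * (x * τ)⁻¹ * τ⁻¹ * (τ * τ) by group]
          exact K.mul_mem (hKconj _ (K.inv_mem hx)) hτ2 }
  have hcover : ∀ Q : Subgroup (Perm α), τ ∈ Q → Q ⊓ alternatingGroup α ≤ K → Q ≤ L' := by
    intro Q hτQ hQK g hg
    rcases Int.units_eq_one_or (sign g) with h | h
    · exact Or.inl (hQK ⟨hg, mem_alternatingGroup.2 h⟩)
    · exact Or.inr (hQK ⟨Q.mul_mem hg hτQ, mem_alternatingGroup.2 (by rw [map_mul, h, hτ]; rfl)⟩)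
  have htop := hjoin L' (hcover P (hP hτR) le_sup_left) (hcover H (hH hτR) le_sup_right)
  refine eq_top_iff.2 fun g _ => ?_
  have hg : (g : Perm α) ∈ K := by
    have hm : (g : Perm α) ∈ L' := htop ▸ Subgroup.mem_top _
    refine hm.resolve_right fun h => ?_
    have := mem_alternatingGroup.1 (hKA h)
    rw [map_mul, mem_alternatingGroup.1 g.2, hτ] at this
    exact absurd this (by decide)
  obtain ⟨y, hy, e⟩ := Subgroup.mem_map.1 (hKL hg)
  rwa [← Subtype.ext e]

/-! ### Sylow 2-subgroups -/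

theorem mem_of_normalizes (R : Sylow 2 (Perm α)) {s : Perm α} {j : ℕ} (hs : s ^ 2 ^ j = 1)
    (hN : s ∈ Subgroup.normalizer ((R : Subgroup (Perm α)) : Set (Perm α))) :
    s ∈ (R : Subgroup (Perm α)) := by
  have hp : IsPGroup 2 (Subgroup.zpowers s) := fun x => by
    obtain ⟨i, hi⟩ := Subgroup.mem_zpowers_iff.1 x.2
    refine ⟨j, Subtype.ext ?_⟩
    rw [Subgroup.coe_pow, ← hi, ← zpow_natCast, ← zpow_mul, mul_comm, zpow_mul, zpow_natCast, hs,
      one_zpow, Subgroup.coe_one]
  have := hp.to_sup_of_normal_right' R.isPGroup' (Subgroup.zpowers_le.2 hN)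
  exact (R.is_maximal' this le_sup_right).symm ▸
    (le_sup_left : Subgroup.zpowers s ≤ Subgroup.zpowers s ⊔ R) (Subgroup.mem_zpowers s)

/-- An involution supported on an orbit and commuting with `R`. -/
theorem exists_orbit_involution (R : Sylow 2 (Perm α)) (a : α)
    (hne : ∃ r ∈ (R : Subgroup (Perm α)), r a ≠ a) :
    ∃ s ∈ (R : Subgroup (Perm α)), (∀ r ∈ (R : Subgroup (Perm α)), r * s = s * r) ∧ s * s = 1 ∧
      s a ≠ a ∧ ∀ x, x ∉ orbit (R : Subgroup (Perm α)) a → s x = x := by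
  classical
  haveI : Fact (Nat.Prime 2) := ⟨Nat.prime_two⟩
  set O := orbit (R : Subgroup (Perm α)) a
  let π : (R : Subgroup (Perm α)) →* Perm O := MulAction.toPermHom _ _
  have hp : IsPGroup 2 π.range := R.isPGroup'.of_surjective π.rangeRestrict π.rangeRestrict_surjective
  obtain ⟨r0, hr0, hr0a⟩ := hne
  haveI : Nontrivial π.range := ⟨⟨_, ⟨⟨r0, hr0⟩, rfl⟩⟩, 1, fun e => hr0a (by
    have e1 := congrArg (fun z : π.range => (((z : Perm O) ⟨a, mem_orbit_self a⟩ : O) : α)) e
    exact e1)⟩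
  haveI := hp.center_nontrivial
  have h2 : 2 ∣ Nat.card (Subgroup.center π.range) := by
    obtain ⟨j, hj⟩ := IsPGroup.iff_card.1 (hp.to_subgroup (Subgroup.center π.range))
    have h1 := Finite.one_lt_card (α := Subgroup.center π.range)
    rcases j with _ | j
    · omega
    · rw [hj, pow_succ]; exact dvd_mul_left _ _
  obtain ⟨c, hc⟩ := exists_prime_orderOf_dvd_card' 2 h2
  set c' : Perm O := ((c : π.range) : Perm O)
  have hcc : c' * c' = 1 := by
    have : c * c = 1 := by
      have h := pow_orderOf_eq_one c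
      rwa [hc, pow_two] at h
    exact congrArg (fun z : Subgroup.center π.range => ((z : π.range) : Perm O)) this
  have hc1 : c' ≠ 1 := fun e => by
    have : c = 1 := Subtype.ext (Subtype.ext e)
    rw [this, orderOf_one] at hc; omega
  have hcomm : ∀ r : (R : Subgroup (Perm α)), ∀ y : O, c' (r • y) = r • c' y := fun r y => by
    have := congrArg Subtype.val (Subgroup.mem_center_iff.1 c.2 ⟨π r, ⟨r, rfl⟩⟩)
    exact (Equiv.ext_iff.1 this y).symm
  let s : Perm α := ofSubtype c'
  have hs : ∀ y : O, s (y : α) = (c' y : α) := fun y => ofSubtype_apply_coe c' y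
  have hout : ∀ x, x ∉ O → s x = x := fun x hx => ofSubtype_apply_of_not_mem c' hx
  have hrs : ∀ r ∈ (R : Subgroup (Perm α)), r * s = s * r := fun r hr => by
    ext x
    show r (s x) = s (r x)
    by_cases hx : x ∈ O
    · obtain ⟨y, rfl⟩ : ∃ y : O, (y : α) = x := ⟨⟨x, hx⟩, rfl⟩
      rw [hs, show r (y : α) = ((⟨r, hr⟩ : (R : Subgroup (Perm α))) • y : O) from rfl, hs, hcomm]
      rfl
    · rw [hout x hx, hout]
      intro hrx
      apply hx
      obtain ⟨t, ht⟩ := hrx
      exact ⟨⟨r, hr⟩⁻¹ * t, by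
        change ((⟨r, hr⟩ : (R : Subgroup (Perm α)))⁻¹ * t) • a = x
        change t • a = r x at ht
        rw [mul_smul, ht]
        exact inv_smul_smul (⟨r, hr⟩ : (R : Subgroup (Perm α))) x⟩
  have hss : s * s = 1 := by rw [← map_mul, hcc, map_one]
  refine ⟨s, mem_of_normalizes R (j := 1) (by rw [pow_one, pow_two, hss]) ?_, hrs, hss, fun e => ?_, hout⟩
  · rw [Subgroup.mem_normalizer_iff]
    intro r
    constructor
    · intro hr; rw [← hrs r hr, mul_inv_cancel_right]; exact hr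
    · intro hr
      have h2 := hrs _ hr
      rw [inv_mul_cancel_right] at h2
      have : r = s * r * s⁻¹ := mul_left_cancel (a := s) h2
      rwa [this]
  · refine hc1 (Equiv.ext fun y => ?_)
    obtain ⟨r, hr⟩ := y.2
    have hy : y = r • (⟨a, mem_orbit_self a⟩ : O) := Subtype.ext hr.symm
    rw [hy, hcomm, show c' ⟨a, mem_orbit_self a⟩ = ⟨a, mem_orbit_self a⟩ from
      Subtype.ext ((hs ⟨a, mem_orbit_self a⟩).symm.trans e)]
    rfl

/-- A transitive Sylow 2-subgroup preserves a partition into two halves. -/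
theorem exists_halves (R : Sylow 2 (Perm α)) (a : α) (htr : ∀ x, x ∈ orbit (R : Subgroup (Perm α)) a)
    (hn : 1 < Fintype.card α) :
    ∃ χ : α → Prop, (R : Subgroup (Perm α)) ≤ partStab χ ∧ ∃ b, ¬ (χ a ↔ χ b) := by
  classical
  haveI : Fact (Nat.Prime 2) := ⟨Nat.prime_two⟩
  set P := (R : Subgroup (Perm α))
  obtain ⟨e, he⟩ := IsPGroup.iff_card.1 R.isPGroup'
  obtain ⟨f, hf⟩ := IsPGroup.iff_card.1 (R.isPGroup'.to_subgroup (stabilizer P a))
  have hlt : f < e := by
    have hne : stabilizer P a ≠ ⊤ := by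
      intro ht
      obtain ⟨b, hb⟩ := Fintype.exists_ne_of_one_lt_card hn a
      obtain ⟨r, hr⟩ := htr b
      exact hb (by rw [← hr]; exact (mem_stabilizer_iff.1 (ht ▸ Subgroup.mem_top r : r ∈ stabilizer P a)))
    by_contra h
    push Not at h
    refine hne (Subgroup.eq_top_of_le_card _ ?_)
    rw [hf, he]
    exact Nat.pow_le_pow_right two_pos h
  obtain ⟨K, hK, hle⟩ := Sylow.exists_subgroup_card_pow_prime_le (G := P) 2
    (m := e - 1) (he ▸ pow_dvd_pow 2 (Nat.sub_le e 1)) (stabilizer P a) hf (by omega)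
  have hidx : K.index = 2 := by
    have h := K.card_mul_index
    rw [hK, he, show 2 ^ e = 2 ^ (e - 1) * 2 by rw [← pow_succ]; congr 1; omega] at h
    exact Nat.eq_of_mul_eq_mul_left (Nat.two_pow_pos _) h
  let χ : α → Prop := fun x => ∃ r : P, r • a = x ∧ r ∈ K
  have hχ : ∀ r : P, χ (r • a) ↔ r ∈ K := fun r => by
    refine ⟨fun ⟨t, ht, htK⟩ => ?_, fun h => ⟨r, rfl, h⟩⟩
    have : t⁻¹ * r ∈ K := hle (by rw [mem_stabilizer_iff, mul_smul, ← ht, inv_smul_smul])
    simpa using K.mul_mem htK this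
  refine ⟨χ, fun s hs x y => ?_, ?_⟩
  · obtain ⟨r, rfl⟩ := htr x
    obtain ⟨t, rfl⟩ := htr y
    show _ ↔ (χ ((⟨s, hs⟩ : P) • r • a) ↔ χ ((⟨s, hs⟩ : P) • t • a))
    show (χ (r • a) ↔ χ (t • a)) ↔ _
    rw [smul_smul, smul_smul, hχ, hχ, hχ, hχ, Subgroup.mul_mem_iff_of_index_two hidx,
      Subgroup.mul_mem_iff_of_index_two hidx]
    tauto
  · obtain ⟨r, hr⟩ : ∃ r : P, r ∉ K := by
      by_contra hall
      push Not at hall
      rw [(Subgroup.eq_top_iff' K).2 hall, Subgroup.index_top] at hidx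
      omega
    refine ⟨r • a, fun h => hr ((hχ r).1 (h.1 ?_))⟩
    exact ⟨1, one_smul _ a, K.one_mem⟩

/-- The centraliser of a fixed-point-free involution moves every partition with a part of size three. -/
theorem exists_moves {z : Perm α} (hz : z * z = 1) (hfix : ∀ x, z x ≠ x) {χ : α → Prop}
    (hb : ∃ a b, ¬ (χ a ↔ χ b)) (h5 : 5 ≤ Fintype.card α) :
    ∃ g : Perm α, z * g = g * z ∧ g ∉ partStab χ := by
  classical
  have hzz : ∀ x, z (z x) = x := fun x => by rw [← mul_apply, hz, one_apply]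
  by_cases hcross : ∃ x, ¬ (χ x ↔ χ (z x))
  · obtain ⟨x, hx⟩ := hcross
    refine ⟨swap x (z x), ?_, ?_⟩
    · rw [← mul_inv_eq_iff_eq_mul, swap_mul_swap_conj, hzz, swap_comm]
    · obtain ⟨w, -, hw⟩ := Finset.exists_mem_notMem_of_card_lt_card
        (s := ({x, z x} : Finset α)) (t := Finset.univ) (by
          rw [Finset.card_univ]; exact lt_of_le_of_lt Finset.card_le_two (by omega))
      simp only [Finset.mem_insert, Finset.mem_singleton, not_or] at hw
      by_cases hwx : χ x ↔ χ w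
      · exact not_mem_partStab_swap (Ne.symm hw.1) hwx hx
      · rw [swap_comm]
        exact not_mem_partStab_swap (Ne.symm hw.2) (by tauto) (by tauto)
  · push Not at hcross
    obtain ⟨a, b, hab⟩ := hb
    have key : ∀ x y w : α, ¬ (χ x ↔ χ y) → w ≠ x → w ≠ z x → (χ x ↔ χ w) →
        ∃ g : Perm α, z * g = g * z ∧ g ∉ partStab χ := by
      intro x y w hxy hwx hwzx hw
      have hyx : ∀ u, (χ u ↔ χ x) → u ≠ y ∧ u ≠ z y := fun u hu =>
        ⟨fun e => hxy (by rw [← e]; exact hu.symm), fun e => hxy ((hcross y).trans (by rw [← e]; exact hu)).symm⟩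
      obtain ⟨hxy1, hxy2⟩ := hyx x Iff.rfl
      obtain ⟨hzxy1, hzxy2⟩ := hyx (z x) (hcross x).symm
      obtain ⟨hwy1, hwy2⟩ := hyx w hw.symm
      have hd : Commute (swap x y) (swap (z x) (z y)) := by
        refine (disjoint_iff_disjoint_support.2 ?_).commute
        rw [support_swap hxy1, support_swap (fun e => hxy1 (z.injective e))]
        simp [Ne.symm (hfix x), Ne.symm (hfix y), hxy2, Ne.symm hzxy1, hfix x, hfix y, Ne.symm hxy2, hzxy1]
      refine ⟨swap x y * swap (z x) (z y), ?_, fun hm => ?_⟩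
      · rw [← mul_inv_eq_iff_eq_mul]
        calc z * (swap x y * swap (z x) (z y)) * z⁻¹
            = (z * swap x y * z⁻¹) * (z * swap (z x) (z y) * z⁻¹) := by group
          _ = swap (z x) (z y) * swap x y := by rw [swap_mul_swap_conj, swap_mul_swap_conj, hzz, hzz]
          _ = _ := hd.eq.symm
      · have := (hm x w).1 hw
        rw [mul_apply, mul_apply, swap_apply_of_ne_of_ne (Ne.symm (hfix x)) hxy2, swap_apply_left,
          swap_apply_of_ne_of_ne hwzx hwy2, swap_apply_of_ne_of_ne hwx hwy1] at this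
        exact hxy (hw.trans this.symm)
    obtain ⟨w, -, hw⟩ := Finset.exists_mem_notMem_of_card_lt_card
      (s := ({a, z a, b, z b} : Finset α)) (t := Finset.univ) (by
        rw [Finset.card_univ]; exact lt_of_le_of_lt Finset.card_le_four (by omega))
    simp only [Finset.mem_insert, Finset.mem_singleton, not_or] at hw
    by_cases hwa : χ a ↔ χ w
    · exact key a b w hab hw.1 hw.2.1 hwa
    · exact key b a w (by tauto) hw.2.2.1 hw.2.2.2 (by tauto)

theorem orbit_ne {R : Subgroup (Perm α)} {a b : α} (hb : b ∉ orbit R a) : a ∉ orbit R b := fun h => by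
  apply hb
  rw [orbit_eq_iff.2 h]
  exact mem_orbit_self b

theorem orbit_le_partStab (R : Subgroup (Perm α)) (a : α) : R ≤ partStab (· ∈ orbit R a) := by
  intro r hr x y
  have key : ∀ w : α, r w ∈ orbit R a ↔ w ∈ orbit R a := fun w =>
    mem_orbit_symm.trans (by
      rw [show r w = (⟨r, hr⟩ : R) • w from rfl, orbit_smul]
      exact mem_orbit_symm)
  beta_reduce
  rw [key, key]

theorem card_orbit_pow (R : Sylow 2 (Perm α)) (a : α) :
    ∃ i, Nat.card (orbit (R : Subgroup (Perm α)) a) = 2 ^ i := by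
  haveI : Fact (Nat.Prime 2) := ⟨Nat.prime_two⟩
  exact R.isPGroup'.card_orbit a

/-- Outside degree `2 ^ k + 1` a Sylow 2-subgroup has two generating proper overgroups. -/
theorem bad_of_not (h5 : 5 ≤ Fintype.card α) (hk : ¬ ∃ k, 2 ≤ k ∧ Fintype.card α = 2 ^ k + 1)
    (R : Sylow 2 (Perm α)) : Bad (R : Subgroup (Perm α)) := by
  classical
  haveI : Fact (Nat.Prime 2) := ⟨Nat.prime_two⟩
  haveI : Nonempty α := Fintype.card_pos_iff.1 (by omega)
  set P := (R : Subgroup (Perm α))
  let a : α := Classical.arbitrary α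
  have hCne : ∀ z : Perm α, z * z = 1 → (∀ x, z x ≠ x) → Subgroup.centralizer ({z} : Set (Perm α)) ≠ ⊤ := by
    intro z hzz hfix e
    obtain ⟨w, -, hw⟩ := Finset.exists_mem_notMem_of_card_lt_card
      (s := ({a, z a} : Finset α)) (t := Finset.univ) (by
        rw [Finset.card_univ]; exact lt_of_le_of_lt Finset.card_le_two (by omega))
    simp only [Finset.mem_insert, Finset.mem_singleton, not_or] at hw
    have hm : swap a w ∈ Subgroup.centralizer ({z} : Set (Perm α)) := e ▸ Subgroup.mem_top _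
    have h1 := Equiv.ext_iff.1 (Subgroup.mem_centralizer_singleton_iff.1 hm) a
    simp only [mul_apply, swap_apply_left] at h1
    rw [swap_apply_of_ne_of_ne (hfix a) (Ne.symm hw.2)] at h1
    first
      | exact hw.1 (z.injective h1.symm)
      | exact hw.1 (z.injective h1)
  have hCmem : ∀ z : Perm α, (∀ r ∈ P, r * z = z * r) → P ≤ Subgroup.centralizer ({z} : Set (Perm α)) :=
    fun z hz r hr => Subgroup.mem_centralizer_singleton_iff.2 (by
      first | exact hz r hr | exact (hz r hr).symm)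
  have hCin : ∀ (z g : Perm α), z * g = g * z → g ∈ Subgroup.centralizer ({z} : Set (Perm α)) :=
    fun z g h => Subgroup.mem_centralizer_singleton_iff.2 (by first | exact h | exact h.symm)
  have hsame : ∀ (χ : α → Prop) (u v : α), ¬ (χ u ↔ χ v) → partStab χ ≠ ⊤ := by
    intro χ u v huv
    obtain ⟨w, -, hw⟩ := Finset.exists_mem_notMem_of_card_lt_card
      (s := ({u, v} : Finset α)) (t := Finset.univ) (by
        rw [Finset.card_univ]; exact lt_of_le_of_lt Finset.card_le_two (by omega))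
    simp only [Finset.mem_insert, Finset.mem_singleton, not_or] at hw
    by_cases h : χ u ↔ χ w
    · exact partStab_ne_top (Ne.symm hw.1) h huv
    · exact partStab_ne_top (Ne.symm hw.2) (b := w) (c := u) (by tauto) (by tauto)
  by_cases h1 : ∀ x, x ∈ orbit P a
  · obtain ⟨χ, hχR, b, hab⟩ := exists_halves R a h1 (by omega)
    obtain ⟨b', hb'⟩ := Fintype.exists_ne_of_one_lt_card (show 1 < Fintype.card α by omega) a
    obtain ⟨r, hr⟩ := h1 b'
    obtain ⟨s, -, hsc, hss, hsa, -⟩ :=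
      exists_orbit_involution R a ⟨r, r.2, fun e => hb' (hr.symm.trans e)⟩
    have hfix : ∀ x, s x ≠ x := fun x hx => by
      obtain ⟨t, rfl⟩ := h1 x
      have e := Equiv.ext_iff.1 (hsc t t.2) a
      simp only [mul_apply] at e
      exact hsa ((t : Perm α).injective (e.trans hx))
    obtain ⟨g, hg, hgχ⟩ := exists_moves hss hfix ⟨a, b, hab⟩ h5
    exact ⟨χ, _, hχR, hCmem s hsc, hsame χ a b hab, hCne s hss hfix, g, hCin s g hg, hgχ⟩
  push Not at h1
  obtain ⟨b, hb⟩ := h1
  have hab : ¬ ((fun x => x ∈ orbit P a) a ↔ (fun x => x ∈ orbit P a) b) :=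
    fun h => hb (h.1 (mem_orbit_self a))
  by_cases h2 : ∀ x, x ∈ orbit P a ∨ x ∈ orbit P b
  · have hdisj : Disjoint (orbit P a) (orbit P b) := Set.disjoint_left.2 fun x hxa hxb => hb (by
      rw [← orbit_eq_iff.2 hxa, orbit_eq_iff.2 hxb]; exact mem_orbit_self b)
    obtain ⟨i, hi⟩ := card_orbit_pow R a
    obtain ⟨j, hj⟩ := card_orbit_pow R b
    have hsum : Fintype.card α = 2 ^ i + 2 ^ j := by
      rw [← hi, ← hj, Nat.card_coe_set_eq, Nat.card_coe_set_eq, ← Set.ncard_union_eq hdisj,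
        ← Nat.card_eq_fintype_card, ← Set.ncard_univ]
      congr 1
      exact (Set.eq_univ_of_forall h2).symm
    have hi0 : i ≠ 0 := fun e => hk ⟨j, by
      subst e
      by_contra h
      push Not at h
      interval_cases j <;> omega, by rw [hsum, e, pow_zero, add_comm]⟩
    have hj0 : j ≠ 0 := fun e => hk ⟨i, by
      subst e
      by_contra h
      push Not at h
      interval_cases i <;> omega, by rw [hsum, e, pow_zero]⟩
    have hmove : ∀ (c : α) (i : ℕ), Nat.card (orbit P c) = 2 ^ i → i ≠ 0 → ∃ r ∈ P, r c ≠ c := by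
      intro c i hi hi0
      by_contra hall
      push Not at hall
      have : orbit P c = {c} := Set.eq_singleton_iff_unique_mem.2
        ⟨mem_orbit_self c, fun x ⟨r, hr⟩ => hr ▸ hall r r.2⟩
      rw [this, Nat.card_coe_set_eq, Set.ncard_singleton] at hi
      exact hi0 (Nat.pow_eq_one.1 hi.symm |>.resolve_left (by norm_num))
    obtain ⟨s, -, hsc, hss, hsa, hsout⟩ := exists_orbit_involution R a (hmove a i hi hi0)
    obtain ⟨t, htR, htc, htt, htb, htout⟩ := exists_orbit_involution R b (hmove b j hj hj0)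
    have hmv : ∀ (c : α) (u : Perm α), (∀ r ∈ P, r * u = u * r) → u c ≠ c →
        ∀ x ∈ orbit P c, u x ≠ x := by
      intro c u hu huc x hx e
      obtain ⟨r, rfl⟩ := hx
      have e1 := Equiv.ext_iff.1 (hu r r.2) c
      simp only [mul_apply] at e1
      exact huc ((r : Perm α).injective (e1.trans e))
    have hfix : ∀ x, (s * t) x ≠ x := fun x => by
      rw [mul_apply]
      rcases h2 x with hx | hx
      · rw [htout x (Set.disjoint_left.1 hdisj hx)]
        exact hmv a s hsc hsa x hx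
      · have hne := hmv b t htc htb x hx
        have hxb : t x ∈ orbit P b := by
          obtain ⟨r, rfl⟩ := hx
          exact ⟨⟨t, htR⟩ * r, mul_smul _ _ _⟩
        rw [hsout _ (Set.disjoint_right.1 hdisj hxb)]
        exact hne
    have hts : t * s = s * t := hsc t htR
    have hzz : s * t * (s * t) = 1 := by
      rw [mul_assoc, ← mul_assoc t, hts, mul_assoc s t t, htt, mul_one, hss]
    have hzc : ∀ r ∈ P, r * (s * t) = s * t * r := fun r hr => by
      rw [← mul_assoc, hsc r hr, mul_assoc, htc r hr, mul_assoc]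
    obtain ⟨g, hg, hgχ⟩ := exists_moves hzz hfix ⟨a, b, hab⟩ h5
    exact ⟨_, _, orbit_le_partStab P a, hCmem _ hzc, hsame _ a b hab, hCne _ hzz hfix, g,
      hCin _ g hg, hgχ⟩
  · push Not at h2
    obtain ⟨c, hca, hcb⟩ := h2
    have hab' : a ∉ orbit P b := orbit_ne hb
    refine ⟨_, partStab (· ∈ orbit P b), orbit_le_partStab P a, orbit_le_partStab P b, hsame _ a b hab,
      hsame _ b a (fun h => hab' (h.1 (mem_orbit_self b))), swap a c,
      swap_mem_partStab (iff_of_false hab' hcb), ?_⟩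
    rw [swap_comm]
    exact not_mem_partStab_swap (χ := (· ∈ orbit P a)) (b := b) (fun e => hcb (by rw [e]; exact mem_orbit_self (M := P) b))
      (iff_of_false hca hb) (fun h => hca (h.2 (mem_orbit_self a)))

theorem exists_swap_mem [Nontrivial α] (R : Sylow 2 (Perm α)) :
    ∃ x y : α, x ≠ y ∧ swap x y ∈ (R : Subgroup (Perm α)) := by
  classical
  haveI : Fact (Nat.Prime 2) := ⟨Nat.prime_two⟩
  obtain ⟨x, y, hxy⟩ := exists_pair_ne α
  have hp : IsPGroup 2 (Subgroup.zpowers (swap x y)) := IsPGroup.of_card (n := 1) (by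
    rw [Nat.card_zpowers, pow_one]; exact (swap_isSwap_iff.2 hxy).orderOf)
  obtain ⟨Q, hQ⟩ := hp.exists_le_sylow
  obtain ⟨g, hg⟩ := MulAction.exists_smul_eq (Perm α) Q R
  refine ⟨g x, g y, fun e => hxy (g.injective e), ?_⟩
  rw [← swap_mul_swap_conj, ← hg, Sylow.coe_subgroup_smul]
  exact ⟨_, hQ (Subgroup.mem_zpowers _), rfl⟩

/-- In degree `2 ^ k + 1` a Sylow 2-subgroup fixes one point and is transitive on the others. -/
theorem setup {k : ℕ} (hk : 1 ≤ k) (hn : Fintype.card α = 2 ^ k + 1) (R : Sylow 2 (Perm α)) :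
    ∃ c : α, (∀ r ∈ (R : Subgroup (Perm α)), r c = c) ∧
      ∀ x y, x ≠ c → y ≠ c → ∃ r ∈ (R : Subgroup (Perm α)), r x = y := by
  classical
  haveI : Fact (Nat.Prime 2) := ⟨Nat.prime_two⟩
  set P := (R : Subgroup (Perm α))
  obtain ⟨c, hc⟩ := R.isPGroup'.nonempty_fixed_point_of_prime_not_dvd_card α (by
    rw [Nat.card_eq_fintype_card, hn]
    have : 2 ∣ 2 ^ k := dvd_pow_self 2 (by omega)
    omega)
  have hfix : ∀ r ∈ P, r c = c := fun r hr => hc ⟨r, hr⟩
  refine ⟨c, hfix, fun x y hx hy => ?_⟩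
  set S := stabilizer (Perm α) c
  haveI : IsPretransitive S (SubMulAction.ofStabilizer (Perm α) c) := ⟨fun u v => by
    refine ⟨⟨swap (u : α) v, ?_⟩, Subtype.ext (swap_apply_left _ _)⟩
    exact swap_apply_of_ne_of_ne ((SubMulAction.mem_ofStabilizer_iff _ _).1 u.2).symm
      ((SubMulAction.mem_ofStabilizer_iff _ _).1 v.2).symm⟩
  have hPS : P ≤ S := hfix
  have hcard : Nat.card (SubMulAction.ofStabilizer (Perm α) c) = 2 ^ k := by
    rw [SubMulAction.nat_card_ofStabilizer_eq, Nat.card_eq_fintype_card, hn, Nat.add_sub_cancel]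
  haveI := CfsgLib.Perm.Basic.isPretransitive_of_not_dvd_index
    (G := S) (Ω := SubMulAction.ofStabilizer (Perm α) c) Nat.prime_two hcard (P.subgroupOf S)
    (fun h => R.not_dvd_index (h.trans (by
      rw [← Subgroup.relIndex, ← Subgroup.relIndex_mul_index hPS]; exact dvd_mul_right _ _)))
  obtain ⟨r, hr⟩ := MulAction.exists_smul_eq (P.subgroupOf S)
    (⟨x, (SubMulAction.mem_ofStabilizer_iff _ _).2 hx⟩ : SubMulAction.ofStabilizer (Perm α) c)
    ⟨y, (SubMulAction.mem_ofStabilizer_iff _ _).2 hy⟩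
  exact ⟨_, r.2, congrArg Subtype.val hr⟩

theorem preprimitive_of {M : Subgroup (Perm α)} {P : Subgroup (Perm α)} (hPM : P ≤ M) {c : α}
    (hfix : ∀ r ∈ P, r c = c) (htr : ∀ x y, x ≠ c → y ≠ c → ∃ r ∈ P, r x = y)
    (hc : ∃ m ∈ M, m c ≠ c) : IsPreprimitive M α := by
  have h1 : ∀ x, ∃ m ∈ M, m c = x := fun x => by
    by_cases hx : x = c
    · exact ⟨1, M.one_mem, hx.symm⟩
    obtain ⟨m, hm, hmc⟩ := hc
    obtain ⟨r, hr, hrm⟩ := htr (m c) x hmc hx
    exact ⟨r * m, M.mul_mem (hPM hr) hm, by rw [mul_apply, hrm]⟩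
  refine isPreprimitive_of_is_two_pretransitive (is_two_pretransitive_iff.2 fun {p q u v} hpq huv => ?_)
  obtain ⟨m, hm, hmp⟩ := h1 p
  obtain ⟨l, hl, hlu⟩ := h1 u
  have hq : m⁻¹ q ≠ c := fun e => hpq (by rw [← hmp, ← e]; simp)
  have hv : l⁻¹ v ≠ c := fun e => huv (by rw [← hlu, ← e]; simp)
  obtain ⟨r, hr, hrq⟩ := htr _ _ hq hv
  refine ⟨⟨l * r * m⁻¹, M.mul_mem (M.mul_mem hl (hPM hr)) (M.inv_mem hm)⟩, ?_, ?_⟩
  · show l (r (m⁻¹ p)) = u
    rw [show m⁻¹ p = c by rw [← hmp]; simp, hfix r hr, hlu]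
  · show l (r (m⁻¹ q)) = v
    rw [hrq]; simp

theorem existsUnique_of {G : Type*} [Group G] [Finite G] {R S : Subgroup G} (hRS : R ≤ S) (hS : S ≠ ⊤)
    (h : ∀ M : Subgroup G, IsCoatom M → R ≤ M → M ≤ S) : ∃! M : Subgroup G, IsCoatom M ∧ R ≤ M := by
  obtain ⟨M, hM, hSM⟩ := (eq_top_or_exists_le_coatom S).resolve_left hS
  refine ⟨M, ⟨hM, hRS.trans hSM⟩, fun M' hM' => ?_⟩
  have hle : M' ≤ M := (h M' hM'.1 hM'.2).trans hSM
  exact (hle.eq_or_lt).resolve_right fun hlt => hM.1 (hM'.1.2 M hlt)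

theorem unique_sym {k : ℕ} (hk : 2 ≤ k) (hn : Fintype.card α = 2 ^ k + 1) (R : Sylow 2 (Perm α)) :
    ∃! M : Subgroup (Perm α), IsCoatom M ∧ (R : Subgroup (Perm α)) ≤ M := by
  classical
  obtain ⟨c, hfix, htr⟩ := setup (by omega) hn R
  haveI : Nontrivial α := Fintype.one_lt_card_iff_nontrivial.1 (by
    have := Nat.one_lt_two_pow (show k ≠ 0 by omega); omega)
  refine existsUnique_of (S := stabilizer (Perm α) c) hfix (fun e => ?_) fun M hM hRM m hm => ?_
  · obtain ⟨d, hd⟩ := exists_ne c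
    have : swap c d ∈ stabilizer (Perm α) c := e ▸ Subgroup.mem_top _
    exact hd ((swap_apply_left c d).symm.trans this)
  · by_contra hmc
    obtain ⟨x, y, hxy, hs⟩ := exists_swap_mem R
    exact hM.1 (subgroup_eq_top_of_isPreprimitive_of_isSwap_mem
      (preprimitive_of hRM hfix htr ⟨m, hm, hmc⟩) _ ⟨x, y, hxy, rfl⟩ (hRM hs))

theorem dd_threeCycle {e eb f fb e' k l : α} (h1 : e ≠ eb) (h2 : f ≠ fb) (h3 : e ≠ e') (h4 : k ≠ l)
    (h5 : eb ≠ e') (hd1 : Commute (swap f fb) (swap e e')) (hd2 : Commute (swap f fb) (swap k l))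
    (hd3 : Commute (swap e eb) (swap k l)) (hd4 : Commute (swap e eb) (swap f fb))
    (hd5 : Commute (swap e e') (swap k l)) :
    IsThreeCycle ((swap e eb * swap f fb * (swap e e' * swap k l)) *
      (swap e eb * swap f fb * (swap e e' * swap k l))) := by
  have hff : swap f fb * swap f fb = 1 := swap_mul_self f fb
  have hkk : swap k l * swap k l = 1 := swap_mul_self k l
  have hσ : swap e eb * swap f fb * (swap e e' * swap k l) =
      (swap e eb * swap e e') * (swap f fb * swap k l) := by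
    simp only [mul_assoc]
    rw [← mul_assoc (swap f fb), hd1.eq, mul_assoc]
  have hc : Commute (swap e eb * swap e e') (swap f fb * swap k l) :=
    ((hd4.mul_right hd3)).mul_left (hd1.symm.mul_right hd5)
  have hv : (swap f fb * swap k l) * (swap f fb * swap k l) = 1 := by
    rw [hd2.symm.mul_mul_mul_comm, hff, hkk, one_mul]
  rw [hσ, hc.symm.mul_mul_mul_comm, hv, mul_one]
  exact (isThreeCycle_swap_mul_swap_same h1 h3 h5).isThreeCycle_sq

theorem unique_alt {k : ℕ} (hk : 2 ≤ k) (hn : Fintype.card α = 2 ^ k + 1) (R : Sylow 2 (Perm α)) :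
    ∃! M : Subgroup (alternatingGroup α),
      IsCoatom M ∧ (R : Subgroup (Perm α)).subgroupOf (alternatingGroup α) ≤ M := by
  classical
  haveI : Fact (Nat.Prime 2) := ⟨Nat.prime_two⟩
  obtain ⟨c, hfix, htr⟩ := setup (by omega) hn R
  have h5 : 5 ≤ Fintype.card α := by
    have : 2 ^ 2 ≤ 2 ^ k := Nat.pow_le_pow_right two_pos hk
    omega
  haveI : Nontrivial α := Fintype.one_lt_card_iff_nontrivial.1 (by omega)
  set P := (R : Subgroup (Perm α))
  obtain ⟨x0, y0, hxy0, hs0⟩ := exists_swap_mem R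
  have hx0 : x0 ≠ c := fun e => hxy0 (by
    have := hfix _ hs0
    rw [← e, swap_apply_left] at this; exact this.symm)
  -- the pairing
  have hpair : ∀ w, w ≠ c → ∃ w', w' ≠ w ∧ w' ≠ c ∧ swap w w' ∈ P := fun w hw => by
    obtain ⟨r, hr, hrw⟩ := htr x0 w hx0 hw
    refine ⟨r y0, fun e => hxy0 (r.injective (hrw.trans e.symm)), fun e => ?_, ?_⟩
    · have : r y0 = r c := by rw [e, hfix r hr]
      have hy := r.injective this
      have := hfix _ hs0
      rw [← hy, swap_apply_right] at this; exact hxy0 this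
    · rw [← hrw, ← swap_mul_swap_conj]; exact P.mul_mem (P.mul_mem hr hs0) (P.inv_mem hr)
  choose! pr hpr1 hpr2 hpr3 using hpair
  have huniq : ∀ u v w : α, swap u v ∈ P → swap u w ∈ P → u ≠ v → u ≠ w → v = w := fun u v w h1 h2 huv huw => by
    by_contra hvw
    have h3 := (isThreeCycle_swap_mul_swap_same huv huw hvw).orderOf
    obtain ⟨j, hj⟩ := IsPGroup.iff_orderOf.1 R.isPGroup' ⟨_, P.mul_mem h1 h2⟩
    rw [← Subgroup.orderOf_coe, h3] at hj
    rcases j with _ | j
    · simp at hj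
    · rw [pow_succ] at hj; omega
  have hprpr : ∀ w, w ≠ c → pr (pr w) = w := fun w hw =>
    huniq (pr w) (pr (pr w)) w (hpr3 _ (hpr2 w hw)) (swap_comm w (pr w) ▸ hpr3 w hw)
      (hpr1 _ (hpr2 w hw)).symm (hpr1 w hw)
  have hprinj : ∀ u v, u ≠ c → v ≠ c → pr u = pr v → u = v := fun u v hu hv e => by
    rw [← hprpr u hu, e, hprpr v hv]
  have hsgn : ∀ w, w ≠ c → sign (swap w (pr w)) = -1 := fun w hw => sign_swap (hpr1 w hw).symm
  set PA := P ⊓ alternatingGroup α
  have hfixA : ∀ r ∈ PA, r c = c := fun r hr => hfix r hr.1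
  have htrA : ∀ x y, x ≠ c → y ≠ c → ∃ r ∈ PA, r x = y := fun x y hx hy => by
    obtain ⟨r, hr, hrx⟩ := htr x y hx hy
    rcases Int.units_eq_one_or (sign r) with h | h
    · exact ⟨r, ⟨hr, mem_alternatingGroup.2 h⟩, hrx⟩
    obtain ⟨w, -, hw⟩ := Finset.exists_mem_notMem_of_card_lt_card
      (s := ({c, y, pr y} : Finset α)) (t := Finset.univ) (by
        rw [Finset.card_univ]; exact lt_of_le_of_lt Finset.card_le_three (by omega))
    simp only [Finset.mem_insert, Finset.mem_singleton, not_or] at hw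
    refine ⟨swap w (pr w) * r, ⟨P.mul_mem (hpr3 w hw.1) hr, mem_alternatingGroup.2 ?_⟩, ?_⟩
    · rw [map_mul, h, hsgn w hw.1]; rfl
    · rw [mul_apply, hrx]
      exact swap_apply_of_ne_of_ne (Ne.symm hw.2.1)
        (fun e => hw.2.2 (by rw [e, hprpr w hw.1]))
  have hS : (stabilizer (Perm α) c).subgroupOf (alternatingGroup α) ≠ ⊤ := fun e => by
    rw [Subgroup.subgroupOf_eq_top] at e
    obtain ⟨x, hx⟩ := exists_ne c
    obtain ⟨y, -, hy⟩ := Finset.exists_mem_notMem_of_card_lt_card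
      (s := ({c, x} : Finset α)) (t := Finset.univ) (by
        rw [Finset.card_univ]; exact lt_of_le_of_lt Finset.card_le_two (by omega))
    simp only [Finset.mem_insert, Finset.mem_singleton, not_or] at hy
    have h3 : swap c x * swap c y ∈ alternatingGroup α :=
      (isThreeCycle_swap_mul_swap_same hx.symm (Ne.symm hy.1) (Ne.symm hy.2)).mem_alternatingGroup
    have := e h3
    rw [mem_stabilizer_iff] at this
    change swap c x (swap c y c) = c at this
    rw [swap_apply_left, swap_apply_of_ne_of_ne hy.1 hy.2] at this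
    exact hy.1 this
  refine existsUnique_of (S := (stabilizer (Perm α) c).subgroupOf _) (fun r hr => hfix _ hr) hS
    fun M hM hRM m hm => ?_
  by_contra hmc
  set M' := M.map (alternatingGroup α).subtype
  have hPAM : PA ≤ M' := fun r hr => Subgroup.mem_map.2 ⟨⟨r, hr.2⟩, hRM hr.1, rfl⟩
  haveI hprim : IsPreprimitive M' α :=
    preprimitive_of hPAM hfixA htrA ⟨m, Subgroup.mem_map_of_mem _ hm, hmc⟩
  suffices ∃ t ∈ M', IsThreeCycle t by
    obtain ⟨t, ht, h3⟩ := this
    have hA := alternatingGroup_le_of_isPreprimitive_of_isThreeCycle_mem hprim h3 ht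
    refine hM.1 (eq_top_iff.2 fun g _ => ?_)
    obtain ⟨g', hg', e⟩ := Subgroup.mem_map.1 (hA g.2)
    rwa [← Subtype.ext e]
  rcases eq_or_lt_of_le hk with rfl | hk3
  · -- degree five
    exfalso
    have h4 : 4 ∣ Nat.card M' := by
      obtain ⟨w, -, hw⟩ := Finset.exists_mem_notMem_of_card_lt_card
        (s := ({c, x0, pr x0} : Finset α)) (t := Finset.univ) (by
          rw [Finset.card_univ]; exact lt_of_le_of_lt Finset.card_le_three (by omega))
      simp only [Finset.mem_insert, Finset.mem_singleton, not_or] at hw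
      let X := SubMulAction.ofStabilizer M' c
      haveI : IsPretransitive (stabilizer M' c) X := ⟨fun u v => by
        obtain ⟨r, hr, hru⟩ := htrA u v ((SubMulAction.mem_ofStabilizer_iff _ _).1 u.2)
          ((SubMulAction.mem_ofStabilizer_iff _ _).1 v.2)
        exact ⟨⟨⟨r, hPAM hr⟩, hfixA r hr⟩, Subtype.ext hru⟩⟩
      haveI : Nonempty X := ⟨⟨x0, (SubMulAction.mem_ofStabilizer_iff _ _).2 hx0⟩⟩
      have := CfsgLib.Perm.Basic.card_dvd_card (G := stabilizer M' c) (Ω := X)
      rw [SubMulAction.nat_card_ofStabilizer_eq, Nat.card_eq_fintype_card, hn] at this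
      exact this.trans (Subgroup.card_subgroup_dvd_card _)
    have h5' : 5 ∣ Nat.card M' := by
      have := CfsgLib.Perm.Basic.card_dvd_card (G := M') (Ω := α)
      rw [Nat.card_eq_fintype_card, hn] at this
      exact this
    have hcardM : Nat.card M' = Nat.card M :=
      Subgroup.card_map_of_injective (alternatingGroup α).subtype_injective
    have hcA : Nat.card (alternatingGroup α) = 60 := by
      rw [nat_card_alternatingGroup, Nat.card_eq_fintype_card, hn]; rfl
    have h20 : 20 ∣ Nat.card M := hcardM ▸ Nat.Coprime.mul_dvd_of_dvd_of_dvd (by norm_num) h4 h5'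
    have hidx := M.card_mul_index
    rw [hcA] at hidx
    have hidx3 : M.index ≤ 3 := by
      obtain ⟨q, hq⟩ := h20
      have hq0 : 0 < q := by
        rcases Nat.eq_zero_or_pos q with h | h
        · exact absurd (hq.trans (by rw [h, mul_zero])) (Nat.card_pos (α := M)).ne'
        · exact h
      rw [hq] at hidx; nlinarith
    haveI : IsSimpleGroup (alternatingGroup α) :=
      alternatingGroup.isSimpleGroup (α := α) (by rw [Nat.card_eq_fintype_card]; omega)
    rcases (inferInstance : IsSimpleGroup (alternatingGroup α)).eq_bot_or_eq_top_of_normal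
      M.normalCore inferInstance with h | h
    · have hinj : Function.Injective (MulAction.toPermHom (alternatingGroup α) (alternatingGroup α ⧸ M)) := by
        rw [← MonoidHom.ker_eq_bot_iff, ← Subgroup.normalCore_eq_ker, h]
      have := Nat.card_le_card_of_injective _ hinj
      rw [hcA, Nat.card_perm, ← Subgroup.index_eq_card] at this
      have : M.index.factorial ≤ Nat.factorial 3 := Nat.factorial_le hidx3
      simp [Nat.factorial] at this
      omega
    · exact hM.1 (top_le_iff.1 (h ▸ M.normalCore_le))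
  · -- degree at least nine
    have h9 : 9 ≤ Fintype.card α := by
      have : 2 ^ 3 ≤ 2 ^ k := Nat.pow_le_pow_right two_pos hk3
      omega
    obtain ⟨y, -, hy⟩ := Finset.exists_mem_notMem_of_card_lt_card
      (s := ({c, x0, pr x0} : Finset α)) (t := Finset.univ) (by
        rw [Finset.card_univ]; exact lt_of_le_of_lt Finset.card_le_three (by omega))
    simp only [Finset.mem_insert, Finset.mem_singleton, not_or] at hy
    have hxp : pr y ≠ x0 := fun e => hy.2.2 (by rw [← e, hprpr y hy.1])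
    have hD : ∀ u v, u ≠ c → v ≠ c → v ≠ u → v ≠ pr u → swap u (pr u) * swap v (pr v) ∈ M' :=
      fun u v hu hv _ _ => hPAM ⟨P.mul_mem (hpr3 u hu) (hpr3 v hv),
        mem_alternatingGroup.2 (by rw [map_mul, hsgn u hu, hsgn v hv]; rfl)⟩
    obtain ⟨g, hg⟩ := MulAction.exists_smul_eq M' x0 c
    change (g : Perm α) x0 = c at hg
    set A := (g : Perm α) (pr x0) with hA
    set U := (g : Perm α) y with hU
    set V := (g : Perm α) (pr y) with hV
    have hAc : A ≠ c := fun e => hpr1 x0 hx0 ((g : Perm α).injective (e.trans hg.symm))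
    have hUc : U ≠ c := fun e => hy.2.1 ((g : Perm α).injective (e.trans hg.symm))
    have hVc : V ≠ c := fun e => hxp ((g : Perm α).injective (e.trans hg.symm))
    have hAU : A ≠ U := fun e => hy.2.2 ((g : Perm α).injective e).symm
    have hUV : U ≠ V := fun e => hpr1 y hy.1 ((g : Perm α).injective e).symm
    have hAV : A ≠ V := fun e => hy.2.1 (hprinj x0 y hx0 hy.1 ((g : Perm α).injective e)).symm
    have hD' : swap c A * swap U V ∈ M' := by
      have h1 := M'.mul_mem (M'.mul_mem g.2 (hD x0 y hx0 hy.1 hy.2.1 hy.2.2)) (M'.inv_mem g.2)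
      have e : (g : Perm α) * (swap x0 (pr x0) * swap y (pr y)) * (g : Perm α)⁻¹ =
          swap c A * swap U V := by
        calc (g : Perm α) * (swap x0 (pr x0) * swap y (pr y)) * (g : Perm α)⁻¹
            = ((g : Perm α) * swap x0 (pr x0) * (g : Perm α)⁻¹) *
              ((g : Perm α) * swap y (pr y) * (g : Perm α)⁻¹) := by group
          _ = _ := by rw [swap_mul_swap_conj, swap_mul_swap_conj, hg]
      rwa [e] at h1
    have hcomm : ∀ p q r s : α, p ≠ q → r ≠ s → p ≠ r → p ≠ s → q ≠ r → q ≠ s →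
        Commute (swap p q) (swap r s) := fun p q r s hpq hrs h1 h2 h3 h4 =>
      (disjoint_iff_disjoint_support.2 (by
        rw [support_swap hpq, support_swap hrs]
        simp [h1.symm, h2.symm, h3.symm, h4.symm])).commute
    -- finish with a pair meeting the second product in one point
    have fin : ∀ e e' k l u v : α, e ≠ e' → k ≠ l → e ≠ k → e ≠ l → e' ≠ k → e' ≠ l → e ≠ c →
        pr e ≠ e' → pr e ≠ k → pr e ≠ l → (e' = c ∨ e' = u ∨ e' = v) → (k = c ∨ k = u ∨ k = v) →
        (l = c ∨ l = u ∨ l = v) → swap e e' * swap k l ∈ M' →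
        ∃ t ∈ M', IsThreeCycle t := by
      intro e e' k l u v hee' hkl hek hel he'k he'l hec hpe' hpk hpl hs1 hs2 hs3 hmem
      obtain ⟨f, -, hf⟩ := Finset.exists_mem_notMem_of_card_lt_card
        (s := ({c, e, pr e, u, v} : Finset α) ∪ {pr u, pr v}) (t := Finset.univ) (by
          rw [Finset.card_univ]
          refine lt_of_le_of_lt (Finset.card_union_le _ _) ?_
          have := Finset.card_le_five (a := c) (b := e) (c := pr e) (d := u) (e := v)
          have := Finset.card_le_two (a := pr u) (b := pr v)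
          omega)
      simp only [Finset.mem_union, Finset.mem_insert, Finset.mem_singleton, not_or] at hf
      obtain ⟨⟨hfc, hfe, hfpe, hfu, hfv⟩, hfpu, hfpv⟩ := hf
      have hne : ∀ w, f ≠ pr w → w ≠ pr f := fun w h e1 => h (by rw [e1, hprpr f hfc])
      have hout : ∀ w, (w = c ∨ w = u ∨ w = v) → f ≠ w ∧ pr f ≠ w := by
        rintro w (rfl | rfl | rfl)
        · exact ⟨hfc, hpr2 f hfc⟩
        · exact ⟨hfu, (hne _ hfpu).symm⟩
        · exact ⟨hfv, (hne _ hfpv).symm⟩
      obtain ⟨hfe', hpfe'⟩ := hout e' hs1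
      obtain ⟨hfk, hpfk⟩ := hout k hs2
      obtain ⟨hfl, hpfl⟩ := hout l hs3
      refine ⟨_, M'.mul_mem (M'.mul_mem (hD e f hec hfc hfe hfpe) hmem)
        (M'.mul_mem (hD e f hec hfc hfe hfpe) hmem),
        dd_threeCycle (hpr1 e hec).symm (hpr1 f hfc).symm hee' hkl hpe'
          (hcomm f (pr f) e e' (hpr1 f hfc).symm hee' hfe hfe' (Ne.symm (hne e hfpe)) hpfe')
          (hcomm f (pr f) k l (hpr1 f hfc).symm hkl hfk hfl hpfk hpfl)
          (hcomm e (pr e) k l (hpr1 e hec).symm hkl hek hel hpk hpl)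
          (hcomm e (pr e) f (pr f) (hpr1 e hec).symm (hpr1 f hfc).symm (Ne.symm hfe) (hne e hfpe)
            (Ne.symm hfpe) (fun e1 => hfe (hprinj e f hec hfc e1).symm))
          (hcomm e e' k l hee' hkl hek hel he'k he'l)⟩
    by_cases h1 : pr A = U
    · refine fin V U c A U A hUV.symm (Ne.symm hAc) hVc hAV.symm hUc hAU.symm hVc
        (fun e => hAV (hprinj A V hAc hVc (h1.trans e.symm))) (hpr2 V hVc)
        (fun e => hUV.symm (by rw [← h1, ← e, hprpr V hVc])) (Or.inr (Or.inl rfl)) (Or.inl rfl)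
        (Or.inr (Or.inr rfl)) ?_
      rw [swap_comm V U, ← (hcomm c A U V (Ne.symm hAc) hUV (Ne.symm hUc) (Ne.symm hVc) hAU hAV).eq]
      exact hD'
    by_cases h2 : pr A = V
    · refine fin U V c A V A hUV (Ne.symm hAc) hUc hAU.symm hVc hAV.symm hUc
        (fun e => hAU (hprinj A U hAc hUc (h2.trans e.symm))) (hpr2 U hUc)
        (fun e => hUV (by rw [← h2, ← e, hprpr U hUc])) (Or.inr (Or.inl rfl)) (Or.inl rfl)
        (Or.inr (Or.inr rfl)) ?_
      rw [← (hcomm c A U V (Ne.symm hAc) hUV (Ne.symm hUc) (Ne.symm hVc) hAU hAV).eq]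
      exact hD'
    refine fin A c U V U V hAc hUV hAU hAV (Ne.symm hUc) (Ne.symm hVc) hAc (hpr2 A hAc) h1 h2 (Or.inl rfl)
      (Or.inr (Or.inl rfl)) (Or.inr (Or.inr rfl)) ?_
    rw [swap_comm A c]; exact hD'

theorem exists_odd_mem [Nontrivial α] (R : Sylow 2 (Perm α)) :
    ∃ τ ∈ (R : Subgroup (Perm α)), sign τ = -1 := by
  obtain ⟨x, y, hxy, h⟩ := exists_swap_mem R
  exact ⟨_, h, sign_swap hxy⟩

/-- The symmetric statement. -/
theorem sym_iff (h5 : 5 ≤ Fintype.card α) (R : Sylow 2 (Perm α)) :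
    (∃! M : Subgroup (Perm α), IsCoatom M ∧ (R : Subgroup (Perm α)) ≤ M) ↔
      ∃ k, 2 ≤ k ∧ Fintype.card α = 2 ^ k + 1 := by
  refine ⟨fun h => by_contra fun hk => ?_, fun ⟨k, hk, hn⟩ => unique_sym hk hn R⟩
  obtain ⟨P, H, h1, h2, h3, h4, hj⟩ := two_overgroups (bad_of_not h5 hk R)
  exact not_unique h1 h2 h3 h4 hj h

/-- The alternating statement. -/
theorem alt_iff (h5 : 5 ≤ Fintype.card α) (R' : Sylow 2 (alternatingGroup α)) :
    (∃! M : Subgroup (alternatingGroup α), IsCoatom M ∧ (R' : Subgroup (alternatingGroup α)) ≤ M) ↔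
      ∃ k, 2 ≤ k ∧ Fintype.card α = 2 ^ k + 1 := by
  haveI : Fact (Nat.Prime 2) := ⟨Nat.prime_two⟩
  haveI : Nontrivial α := Fintype.one_lt_card_iff_nontrivial.1 (by omega)
  obtain ⟨R, hR⟩ := (R'.isPGroup'.map (alternatingGroup α).subtype).exists_le_sylow
  have he : (R : Subgroup (Perm α)).subgroupOf (alternatingGroup α) = R' := by
    refine R'.is_maximal' ?_ fun x hx => hR (Subgroup.mem_map_of_mem _ hx)
    exact R.isPGroup'.comap_subtype
  rw [← he]
  refine ⟨fun h => by_contra fun hk => ?_, fun ⟨k, hk, hn⟩ => unique_alt hk hn R⟩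
  obtain ⟨P, H, h1, h2, h3, h4, hj⟩ := two_overgroups (bad_of_not h5 hk R)
  obtain ⟨τ, hτ, hτ'⟩ := exists_odd_mem R
  exact not_unique_alt hτ hτ' h1 h2 h3 h4 hj h

end CfsgLib.SymMax.SylowTwoOvergroups
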